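import Mathlib
import Groth.Agent.GeomConn.Normal

/-!
Field extensions tensored with primary extensions: every element is nilpotent or regular.
-/

universe u

namespace Groth.Agent.FlatFam

open TensorProduct

set_option linter.style.haveILetI false

/-- If the residue ring stays a domain after tensoring with `Ω`, elements not in the kernel are regular. -/
theorem regular_of_residue_ne_zero {c R₀ Ω : Type u} [Field c] [CommRing R₀] [IsLocalRing R₀] [Algebra c R₀]
    [CommRing Ω] [Algebra c Ω] [IsDomain (Ω ⊗[c] IsLocalRing.ResidueField R₀)] (s z : Ω ⊗[c] R₀)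
    (hs : (IsScalarTower.toAlgHom c R₀ (IsLocalRing.ResidueField R₀)).toLinearMap.lTensor Ω s ≠ 0)
    (h : s * z = 0) : z = 0 := by
  classical
  let D := IsLocalRing.ResidueField R₀
  by_contra hz
  let b := Module.Free.chooseBasis c Ω
  let f := TensorProduct.equivFinsuppOfBasisLeft b z
  let J : Ideal R₀ := Ideal.span (f.support.image f : Set R₀)
  let g : ∀ j : Module.Free.ChooseBasisIndex c Ω, J := fun j => ⟨f j, by
    by_cases hj : j ∈ f.support
    · exact Ideal.subset_span (Finset.mem_coe.2 (Finset.mem_image_of_mem _ hj))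
    · rw [Finsupp.notMem_support_iff.1 hj]; exact Submodule.zero_mem _⟩
  let ι : J →ₗ[c] R₀ := (Submodule.subtype J).restrictScalars c
  have hι : Function.Injective (ι.lTensor Ω) :=
    Module.Flat.lTensor_preserves_injective_linearMap _ Subtype.val_injective
  let w : Ω ⊗[c] J := ∑ j ∈ f.support, b j ⊗ₜ[c] g j
  have hw : ι.lTensor Ω w = z := by
    rw [← (TensorProduct.equivFinsuppOfBasisLeft b).symm_apply_apply z, map_sum,
      TensorProduct.equivFinsuppOfBasisLeft_symm_apply]
    rfl
  -- a functional on `J` killing `N J`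
  obtain ⟨j₀, hj₀, φ, hφ⟩ : ∃ j ∈ f.support, ∃ φ : J →ₗ[R₀] D, φ (g j) ≠ 0 := by
    have hJ : J ≠ ⊥ := fun hb => hz <| by
      refine (TensorProduct.equivFinsuppOfBasisLeft b).injective (Finsupp.ext fun j => ?_)
      have h1 : f j ∈ (⊥ : Ideal R₀) := hb ▸ (g j).2
      simpa [f] using h1
    haveI : Module.Finite R₀ J := Module.Finite.of_fg ⟨_, rfl⟩
    let N := IsLocalRing.maximalIdeal R₀
    let Q := J ⧸ N • (⊤ : Submodule R₀ J)
    haveI : Nontrivial Q := Submodule.Quotient.nontrivial_iff.2 fun ht => hJ <| by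
      have h2 := Submodule.eq_bot_of_le_smul_of_le_jacobson_bot N (⊤ : Submodule R₀ J) Module.Finite.fg_top ht.ge
        (IsLocalRing.maximalIdeal_le_jacobson ⊥)
      rw [eq_bot_iff]
      intro x hx
      have h3 : (⟨x, hx⟩ : J) ∈ (⊥ : Submodule R₀ J) := h2 ▸ Submodule.mem_top
      exact congrArg Subtype.val ((Submodule.mem_bot R₀).1 h3)
    obtain ⟨q, hq⟩ := exists_ne (0 : Q)
    letI : Field (R₀ ⧸ N) := Ideal.Quotient.field N
    obtain ⟨ψ, hψ⟩ := Module.Projective.exists_dual_ne_zero (R₀ ⧸ N) hq
    by_contra hc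
    push_neg at hc
    obtain ⟨⟨x, hx⟩, rfl⟩ := Submodule.mkQ_surjective _ q
    refine hψ ?_
    let φ : J →ₗ[R₀] D := (ψ.restrictScalars R₀).comp (Submodule.mkQ _)
    show φ ⟨x, hx⟩ = 0
    clear hψ hq
    induction hx using Submodule.span_induction with
    | mem x hx =>
      obtain ⟨j, hj, rfl⟩ := Finset.mem_image.1 (Finset.mem_coe.1 hx)
      exact hc j hj φ
    | zero => exact map_zero φ
    | add x y hx hy h1 h2 =>
      rw [show (⟨x + y, _⟩ : J) = ⟨x, hx⟩ + ⟨y, hy⟩ from rfl, map_add, h1, h2, add_zero]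
    | smul r x hx h1 =>
      rw [show (⟨r • x, _⟩ : J) = r • ⟨x, hx⟩ from rfl, map_smul, h1, smul_zero]
  let φc : J →ₗ[c] D := φ.restrictScalars c
  let red : R₀ →ₗ[c] D := (IsScalarTower.toAlgHom c R₀ D).toLinearMap
  have hφw : φc.lTensor Ω w ≠ 0 := fun h0 => hφ <| by
    have h1 := DFunLike.congr_fun (congrArg (TensorProduct.equivFinsuppOfBasisLeft b) h0) j₀
    simp only [w, map_sum, LinearMap.lTensor_tmul, map_zero, Finsupp.coe_zero, Pi.zero_apply,
      Finsupp.finsetSum_apply, TensorProduct.equivFinsuppOfBasisLeft_apply_tmul_apply, b.repr_self] at h1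
    rw [Finset.sum_eq_single j₀ (fun i _ hi => by simp [Finsupp.single_eq_of_ne' hi]) (fun hn => absurd hj₀ hn)] at h1
    simp at h1
    exact h1
  have key : ∀ s : Ω ⊗[c] R₀, ∃ L : Ω ⊗[c] J →ₗ[c] Ω ⊗[c] J, ∀ x : Ω ⊗[c] J,
      ι.lTensor Ω (L x) = s * ι.lTensor Ω x ∧ φc.lTensor Ω (L x) = red.lTensor Ω s * φc.lTensor Ω x := by
    intro s
    induction s using TensorProduct.induction_on with
    | zero => exact ⟨0, fun x => by simp⟩
    | add s t hs ht =>
      obtain ⟨L, hL⟩ := hs
      obtain ⟨M, hM⟩ := ht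
      exact ⟨L + M, fun x => by simp [hL x, hM x, add_mul]⟩
    | tmul o a =>
      refine ⟨TensorProduct.map (LinearMap.mulLeft c o) ((a • LinearMap.id : J →ₗ[R₀] J).restrictScalars c), fun x => ?_⟩
      induction x using TensorProduct.induction_on with
      | zero => simp
      | add x y hx hy => simp only [map_add, mul_add, hx.1, hx.2, hy.1, hy.2, and_self]
      | tmul o' y =>
        simp only [TensorProduct.map_tmul, LinearMap.lTensor_tmul, Algebra.TensorProduct.tmul_mul_tmul]
        refine ⟨rfl, ?_⟩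
        congr 1
        show φ (a • y) = _
        rw [map_smul, Algebra.smul_def]
        rfl
  obtain ⟨L, hL⟩ := key s
  have hLw : L w = 0 := hι (by rw [(hL w).1, hw, h, map_zero])
  have h2 := (hL w).2
  rw [hLw, map_zero, eq_comm, mul_eq_zero] at h2
  exact h2.elim hs hφw

/-- In the tensor product of a field with a primary extension every element is nilpotent or regular. -/
theorem isNilpotent_or_regular {k F K : Type u} [Field k] [Field F] [Field K] [Algebra k F] [Algebra k K]
    (h : ∀ a : F, IsSeparable k a → a ∈ (algebraMap k F).range) (s z : K ⊗[k] F) (hs : ¬ IsNilpotent s)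
    (hz : s * z = 0) : z = 0 := by
  classical
  let c := AlgebraicClosure k
  let Ω := AlgebraicClosure K
  let j : c →ₐ[k] Ω := IsAlgClosed.lift
  letI : Algebra c Ω := j.toRingHom.toAlgebra
  haveI : IsScalarTower k c Ω := IsScalarTower.of_algebraMap_eq fun x => (j.commutes x).symm
  let R₀ := c ⊗[k] F
  haveI : IsLocalRing R₀ := by
    haveI : IrreducibleSpace (PrimeSpectrum (F ⊗[k] c)) :=
      Groth.Agent.GeomConn.irreducibleSpace_primary (k := k) (F := F) (by
        rw [eq_bot_iff]
        exact fun a ha => IntermediateField.mem_bot.2 (h a (mem_separableClosure_iff.1 ha)))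
    haveI : Algebra.IsIntegral F (F ⊗[k] c) := inferInstance
    haveI hN : (nilradical (F ⊗[k] c)).IsPrime := PrimeSpectrum.irreducibleSpace_iff_isPrime_nilradical.1 inferInstance
    have hmax : ∀ P : Ideal (F ⊗[k] c), P.IsPrime → P.IsMaximal := fun P hP => by
      haveI := hP
      haveI : (P.comap (algebraMap F (F ⊗[k] c))).IsMaximal := by
        have hb : P.comap (algebraMap F (F ⊗[k] c)) = ⊥ :=
          (Ideal.eq_bot_or_top _).resolve_right (Ideal.IsPrime.comap _).ne_top
        rw [hb]; exact Ideal.bot_isMaximal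
      exact Ideal.isMaximal_of_isIntegral_of_isMaximal_comap (R := F) P this
    haveI : IsLocalRing (F ⊗[k] c) := IsLocalRing.of_unique_max_ideal ⟨nilradical (F ⊗[k] c), hmax _ hN,
      fun P hP => ((hmax _ hN).eq_of_le hP.ne_top (nilradical_le_prime P)).symm⟩
    exact (Algebra.TensorProduct.comm k F c).toRingEquiv.isLocalRing
  let D := IsLocalRing.ResidueField R₀
  haveI : IsDomain (Ω ⊗[c] D) := Groth.Agent.GeomConn.isDomain_tensor D Ω
  -- embed into the algebraic closure
  let inc : K ⊗[k] F →ₐ[k] Ω ⊗[k] F :=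
    Algebra.TensorProduct.map (IsScalarTower.toAlgHom k K Ω) (AlgHom.id k F)
  have hinc : Function.Injective inc :=
    Module.Flat.rTensor_preserves_injective_linearMap (IsScalarTower.toAlgHom k K Ω).toLinearMap
      (algebraMap K Ω).injective
  let e : Ω ⊗[c] R₀ ≃ₐ[Ω] Ω ⊗[k] F := Algebra.TensorProduct.cancelBaseChange k c Ω Ω F
  apply hinc
  rw [map_zero]
  apply e.symm.injective
  rw [map_zero]
  refine regular_of_residue_ne_zero (e.symm (inc s)) _ (fun h0 => hs ?_) (by rw [← map_mul, ← map_mul, hz, map_zero, map_zero])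
  let red : R₀ →ₗ[c] D := (IsScalarTower.toAlgHom c R₀ D).toLinearMap
  have hex : Function.Exact (LinearMap.ker red).subtype red := LinearMap.exact_subtype_ker_map red
  obtain ⟨v, hv⟩ := ((lTensor_exact Ω hex IsLocalRing.residue_surjective) _).1 h0
  have hnil : IsNilpotent (e.symm (inc s)) := by
    rw [← hv]
    clear hv h0
    induction v using TensorProduct.induction_on with
    | zero => exact map_zero ((LinearMap.ker red).subtype.lTensor Ω) ▸ IsNilpotent.zero
    | add x y hx hy => rw [map_add]; exact (Commute.all _ _).isNilpotent_add hx hy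
    | tmul o y =>
      obtain ⟨y, hy⟩ := y
      rw [LinearMap.lTensor_tmul, Submodule.subtype_apply]
      have hy' : y ∈ IsLocalRing.maximalIdeal R₀ := (IsLocalRing.residue_eq_zero_iff y).1 hy
      haveI : Algebra.IsIntegral F (F ⊗[k] c) := inferInstance
      have hyn : IsNilpotent y := by
        rw [← mem_nilradical, nilradical_eq_sInf, Submodule.mem_sInf]
        intro (P : Ideal R₀) hP
        haveI : P.IsPrime := hP
        have hPm : P.IsMaximal := by
          let ec := (Algebra.TensorProduct.comm k F c).toRingEquiv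
          let P' : Ideal (F ⊗[k] c) := P.comap (ec : F ⊗[k] c →+* R₀)
          haveI : P'.IsPrime := Ideal.IsPrime.comap _
          haveI : (P'.comap (algebraMap F (F ⊗[k] c))).IsMaximal := by
            have hb : P'.comap (algebraMap F (F ⊗[k] c)) = ⊥ :=
              (Ideal.eq_bot_or_top _).resolve_right (Ideal.IsPrime.comap _).ne_top
            rw [hb]; exact Ideal.bot_isMaximal
          haveI : P'.IsMaximal := Ideal.isMaximal_of_isIntegral_of_isMaximal_comap (R := F) P' inferInstance
          have : P = P'.comap (ec.symm : R₀ →+* F ⊗[k] c) := by rw [Ideal.comap_comap]; exact (Ideal.ext fun x => by rw [Ideal.mem_comap, RingHom.comp_apply, RingHom.coe_coe, RingHom.coe_coe, RingEquiv.apply_symm_apply])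
          rw [this]; exact Ideal.comap_isMaximal_of_surjective _ ec.symm.surjective
        rwa [IsLocalRing.eq_maximalIdeal hPm]
      obtain ⟨n, hn⟩ := hyn
      exact ⟨n, by rw [Algebra.TensorProduct.tmul_pow, show ((⟨y, hy⟩ : LinearMap.ker red) : R₀) = y from rfl, hn, TensorProduct.tmul_zero]⟩
  have h3 : IsNilpotent (inc s) := by simpa using hnil.map e
  exact (IsNilpotent.map_iff hinc).1 h3

end Groth.Agent.FlatFam
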