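import Mathlib
import Groth.Agent.FlatFam.FieldTensor

/-!
Detecting the vanishing of elements of `V ⊗ N` at the points over a point, `V` a module over the residue field.
-/

universe u

namespace Groth.Agent.FlatFam

open TensorProduct

set_option linter.style.haveILetI false

/-- Injective maps of modules killed by the maximal ideal split linearly over the base. -/
theorem exists_retraction {A X Y : Type u} [CommRing A] [IsLocalRing A] [AddCommGroup X] [Module A X]
    [AddCommGroup Y] [Module A Y] (hX : ∀ a ∈ IsLocalRing.maximalIdeal A, ∀ x : X, a • x = 0)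
    (hY : ∀ a ∈ IsLocalRing.maximalIdeal A, ∀ y : Y, a • y = 0) (f : X →ₗ[A] Y) (hf : Function.Injective f) :
    ∃ r : Y →ₗ[A] X, r.comp f = LinearMap.id := by
  let m := IsLocalRing.maximalIdeal A
  letI : Field (A ⧸ m) := Ideal.Quotient.field m
  have tX : Module.IsTorsionBySet A X (m : Set A) := fun x a => hX a.1 a.2 x
  have tY : Module.IsTorsionBySet A Y (m : Set A) := fun y a => hY a.1 a.2 y
  letI := tX.module
  letI := tY.module
  haveI : IsScalarTower A (A ⧸ m) X := tX.isScalarTower
  haveI : IsScalarTower A (A ⧸ m) Y := tY.isScalarTower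
  let fk : X →ₗ[A ⧸ m] Y := f.extendScalarsOfSurjective Ideal.Quotient.mk_surjective
  obtain ⟨r, hr⟩ := fk.exists_leftInverse_of_injective (LinearMap.ker_eq_bot.2 hf)
  exact ⟨r.restrictScalars A, LinearMap.ext fun x => LinearMap.congr_fun hr x⟩

section Residue

variable {A B k' U : Type u} [CommRing A] [IsLocalRing A] [CommRing B] [Algebra A B] [Field k'] [Algebra A k']
  [CommRing U] [Algebra A U] [Algebra k' U] [Algebra B U] [IsScalarTower A k' U] [IsScalarTower A B U]
  [Algebra.IsPushout A k' B U]

include k'

/-- Tensoring with `U` keeps injections of modules killed by the maximal ideal. -/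
theorem lTensor_injective_of_killed {X Y : Type u} [AddCommGroup X] [Module A X] [Module B X] [IsScalarTower A B X]
    [AddCommGroup Y] [Module A Y] [Module B Y] [IsScalarTower A B Y]
    (hX : ∀ a ∈ IsLocalRing.maximalIdeal A, ∀ x : X, a • x = 0)
    (hY : ∀ a ∈ IsLocalRing.maximalIdeal A, ∀ y : Y, a • y = 0) (f : X →ₗ[B] Y) (hf : Function.Injective f) :
    Function.Injective (f.lTensor U) := by
  obtain ⟨r, hr⟩ := exists_retraction hX hY (f.restrictScalars A) hf
  let eX := Algebra.IsPushout.cancelBaseChange A k' B U X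
  let eY := Algebra.IsPushout.cancelBaseChange A k' B U Y
  have hsq : ∀ z, f.lTensor U (eX.symm z) = eY.symm ((f.restrictScalars A).lTensor k' z) := by
    intro z
    induction z using TensorProduct.induction_on with
    | zero => simp
    | add a b ha hb => simp only [map_add, ha, hb]
    | tmul a x =>
      simp only [eX, eY, LinearMap.lTensor_tmul, Algebra.IsPushout.cancelBaseChange_symm_tmul]
      rfl
  intro z z' hzz
  obtain ⟨z, rfl⟩ := eX.symm.surjective z
  obtain ⟨z', rfl⟩ := eX.symm.surjective z'
  rw [hsq, hsq] at hzz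
  have h1 := congrArg (r.lTensor k') (eY.symm.injective hzz)
  rw [← LinearMap.comp_apply, ← LinearMap.comp_apply, ← LinearMap.lTensor_comp, hr, LinearMap.lTensor_id] at h1
  exact congrArg eX.symm h1

/-- Vanishing at a set of points passes from the residue field to all finite modules killed by `m`. -/
theorem eq_zero_of_detect {R : Type u} [CommRing R] [IsLocalRing R] [IsNoetherianRing R] [Algebra A R] [Algebra B R]
    [IsScalarTower A B R] (S : Set (Ideal U))
    (hdet : ∀ e : U ⊗[B] IsLocalRing.ResidueField R, (∀ P ∈ S, ∃ s ∉ P, s • e = 0) → e = 0)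
    (hm : ∀ a ∈ IsLocalRing.maximalIdeal A, algebraMap A R a ∈ IsLocalRing.maximalIdeal R)
    (X : Type u) [AddCommGroup X] [Module A X] [Module B X] [Module R X] [IsScalarTower A B X] [IsScalarTower B R X]
    [IsScalarTower A R X] [Module.Finite R X] (hX : ∀ a ∈ IsLocalRing.maximalIdeal A, ∀ x : X, a • x = 0)
    (w : U ⊗[B] X) (hw : ∀ P ∈ S, ∃ s ∉ P, s • w = 0) : w = 0 := by
  classical
  let Q := IsLocalRing.maximalIdeal R
  let κ := IsLocalRing.ResidueField R
  have hG : ∀ (n : ℕ), ∀ v : U ⊗[B] (X ⧸ Q ^ n • (⊤ : Submodule R X)), (∀ P ∈ S, ∃ s ∉ P, s • v = 0) → v = 0 := by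
    intro n
    induction n with
    | zero =>
      intro v _
      haveI : Subsingleton (X ⧸ Q ^ 0 • (⊤ : Submodule R X)) := Submodule.Quotient.subsingleton_iff.2 (by
        rw [pow_zero, Ideal.one_eq_top, Submodule.top_smul])
      haveI : Subsingleton (U ⊗[B] (X ⧸ Q ^ 0 • (⊤ : Submodule R X))) := subsingleton_of_forall_eq 0 fun t => by
        induction t using TensorProduct.induction_on with
        | zero => rfl
        | add a b ha hb => rw [ha, hb, add_zero]
        | tmul a x => rw [Subsingleton.elim x 0, TensorProduct.tmul_zero]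
      exact Subsingleton.elim _ _
    | succ n ih =>
      intro v hv
      let P₁ : Submodule R X := Q ^ n • ⊤
      let P₂ : Submodule R X := Q ^ (n + 1) • ⊤
      have hle : P₂ ≤ P₁ := Submodule.smul_mono_left (Ideal.pow_le_pow_right (Nat.le_succ n))
      let K := LinearMap.ker (Submodule.factor hle)
      let f : K →ₗ[B] X ⧸ P₂ := K.subtype.restrictScalars B
      let g : (X ⧸ P₂) →ₗ[B] X ⧸ P₁ := (Submodule.factor hle).restrictScalars B
      have hg : Function.Surjective g := Submodule.factor_surjective hle
      have hfg : Function.Exact f g := LinearMap.exact_subtype_ker_map (Submodule.factor hle)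
      have hgv : g.lTensor U v = 0 := ih _ fun P hP => by
        obtain ⟨s, hs, hsv⟩ := hv P hP
        refine ⟨s, hs, ?_⟩
        have h1 := congrArg (AlgebraTensorModule.lTensor U U g) hsv
        rwa [map_smul, map_zero, AlgebraTensorModule.coe_lTensor] at h1
      obtain ⟨u, rfl⟩ := ((lTensor_exact U hfg hg) v).1 hgv
      have hkX : ∀ a ∈ IsLocalRing.maximalIdeal A, ∀ x : X ⧸ P₂, a • x = 0 := fun a ha x => by
        obtain ⟨x, rfl⟩ := Submodule.Quotient.mk_surjective _ x
        rw [← Submodule.Quotient.mk_smul, hX a ha x, Submodule.Quotient.mk_zero]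
      have hkK : ∀ a ∈ IsLocalRing.maximalIdeal A, ∀ x : K, a • x = 0 := fun a ha x => Subtype.ext (hkX a ha x.1)
      have hinj : Function.Injective (f.lTensor U) :=
        lTensor_injective_of_killed (A := A) (k' := k') hkK hkX f Subtype.val_injective
      have hQK : Module.IsTorsionBySet R K (Q : Set R) := by
        rintro ⟨x, hx⟩ ⟨r, hr⟩
        obtain ⟨x, rfl⟩ := Submodule.Quotient.mk_surjective _ x
        have hx' : x ∈ P₁ := (Submodule.Quotient.mk_eq_zero P₁).1 hx
        refine Subtype.ext ?_
        show r • (Submodule.Quotient.mk x : X ⧸ P₂) = 0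
        rw [← Submodule.Quotient.mk_smul, Submodule.Quotient.mk_eq_zero]
        show r • x ∈ Q ^ (n + 1) • (⊤ : Submodule R X)
        rw [pow_succ', ← smul_eq_mul, Submodule.smul_assoc]
        exact Submodule.smul_mem_smul hr hx'
      haveI : Module.Finite R K := inferInstance
      letI : Module κ K := hQK.module
      haveI : IsScalarTower R κ K := hQK.isScalarTower
      haveI : IsScalarTower B κ K := IsScalarTower.of_algebraMap_smul fun b x => by
        rw [IsScalarTower.algebraMap_apply B R κ, algebraMap_smul, algebraMap_smul]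
      haveI : Module.Finite κ K := Module.Finite.of_restrictScalars_finite R κ K
      let b := Module.finBasis κ K
      let e : K ≃ₗ[B] (Fin (Module.finrank κ K) → κ) := b.equivFun.restrictScalars B
      let E := (AlgebraTensorModule.congr (LinearEquiv.refl U U) e).trans
        (TensorProduct.piRight B U U (fun _ : Fin (Module.finrank κ K) => κ))
      have hu : E u = 0 := funext fun i => hdet _ fun P hP => by
        obtain ⟨s, hs, hsv⟩ := hv P hP
        refine ⟨s, hs, ?_⟩
        have h1 : s • u = 0 := hinj (by
          rw [map_zero, ← hsv]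
          show AlgebraTensorModule.lTensor U U f (s • u) = s • f.lTensor U u
          rw [map_smul, AlgebraTensorModule.coe_lTensor])
        have h2 := congrArg (fun z => E z i) h1
        simpa using h2
      rw [E.map_eq_zero_iff.1 hu, map_zero]
  -- separation
  let m := IsLocalRing.maximalIdeal A
  let eX := Algebra.IsPushout.cancelBaseChange A k' B U X
  obtain ⟨z, rfl⟩ := eX.symm.surjective w
  have hzn : ∀ (ψ : k' ⊗[A] X →ₗ[A] X), (∀ (n : ℕ) (a : k') (x : X), x ∈ Q ^ n • (⊤ : Submodule R X) →
      ψ (a ⊗ₜ x) ∈ Q ^ n • (⊤ : Submodule R X)) → ψ z = 0 := by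
    intro ψ hψ
    have hmem : ψ z ∈ ⨅ n : ℕ, Q ^ n • (⊤ : Submodule R X) := by
      rw [Submodule.mem_iInf]
      intro n
      let Pn : Submodule R X := Q ^ n • ⊤
      have hv := hG n ((Pn.mkQ.restrictScalars B).lTensor U (eX.symm z)) fun P hP => by
        obtain ⟨s, hs, hsv⟩ := hw P hP
        refine ⟨s, hs, ?_⟩
        have h1 := congrArg (AlgebraTensorModule.lTensor U U (Pn.mkQ.restrictScalars B)) hsv
        rwa [map_smul, map_zero, AlgebraTensorModule.coe_lTensor] at h1
      have h2 : (Pn.mkQ.restrictScalars A).lTensor k' z = 0 := by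
        apply (Algebra.IsPushout.cancelBaseChange A k' B U (X ⧸ Pn)).symm.injective
        rw [map_zero, ← hv]
        clear hv hψ hw
        induction z using TensorProduct.induction_on with
        | zero => simp
        | add a b ha hb => simp only [map_add, ha, hb]
        | tmul a x => simp [eX]
      obtain ⟨y, rfl⟩ := ((lTensor_exact k' (show Function.Exact (Pn.subtype.restrictScalars A)
        (Pn.mkQ.restrictScalars A) from fun x => by simp [Submodule.Quotient.mk_eq_zero])
        (Submodule.mkQ_surjective Pn)) z).1 h2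
      clear h2 hv hw
      induction y using TensorProduct.induction_on with
      | zero => simp
      | add a b ha hb => rw [map_add, map_add]; exact Submodule.add_mem _ ha hb
      | tmul a x => exact hψ n a x.1 x.2
    rw [Ideal.iInf_pow_smul_eq_bot_of_isLocalRing (M := X) Q (IsLocalRing.maximalIdeal.isMaximal R).ne_top] at hmem
    exact (Submodule.mem_bot R).1 hmem
  suffices z = 0 by rw [this, map_zero]
  letI : Field (A ⧸ m) := Ideal.Quotient.field m
  by_cases hk : ∀ a ∈ m, algebraMap A k' a = 0
  · letI : Algebra (A ⧸ m) k' := (Ideal.Quotient.lift m (algebraMap A k') hk).toAlgebra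
    haveI : IsScalarTower A (A ⧸ m) k' := IsScalarTower.of_algebraMap_eq fun _ => rfl
    have tX : Module.IsTorsionBySet A X (m : Set A) := fun x a => hX a.1 a.2 x
    letI := tX.module
    haveI : IsScalarTower A (A ⧸ m) X := tX.isScalarTower
    let b := Module.Free.chooseBasis (A ⧸ m) k'
    let Θ : (Module.Free.ChooseBasisIndex (A ⧸ m) k' →₀ X) →ₗ[A] k' ⊗[A] X :=
      Finsupp.lsum A fun j => TensorProduct.mk A k' X (b j)
    have hΘ : ∀ v, ∃ f, Θ f = v := by
      intro v
      induction v using TensorProduct.induction_on with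
      | zero => exact ⟨0, map_zero _⟩
      | add a c ha hc =>
        obtain ⟨f, rfl⟩ := ha
        obtain ⟨g, rfl⟩ := hc
        exact ⟨f + g, map_add _ _ _⟩
      | tmul a x =>
        refine ⟨∑ j ∈ (b.repr a).support, Finsupp.single j ((b.repr a j) • x), ?_⟩
        simp only [Θ, map_sum, Finsupp.lsum_single]
        conv_rhs => rw [← b.linearCombination_repr a, Finsupp.linearCombination_apply, Finsupp.sum, TensorProduct.sum_tmul]
        refine Finset.sum_congr rfl fun j _ => ?_
        obtain ⟨c, hc⟩ := Ideal.Quotient.mk_surjective (b.repr a j)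
        show b j ⊗ₜ[A] ((b.repr a j) • x) = _
        rw [← hc, ← Ideal.Quotient.algebraMap_eq, algebraMap_smul, algebraMap_smul, TensorProduct.smul_tmul]
    obtain ⟨f, rfl⟩ := hΘ z
    have hf : f = 0 := Finsupp.ext fun j => by
      let ψ : k' ⊗[A] X →ₗ[A] X := TensorProduct.lift
        (LinearMap.mk₂ A (fun (a : k') (x : X) => (b.repr a j) • x)
          (fun a a' x => by rw [map_add, Finsupp.add_apply, add_smul])
          (fun c a x => by rw [← algebraMap_smul (A ⧸ m) c a, map_smul, Finsupp.smul_apply, smul_assoc, algebraMap_smul])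
          (fun a x y => smul_add _ _ _) (fun c a x => smul_comm _ c x))
      have h0 : ψ (Θ f) = f j := by
        simp only [Θ, Finsupp.lsum_apply, Finsupp.sum, map_sum]
        rw [Finset.sum_eq_single j]
        · simp [ψ]
        · intro i _ hi; simp [ψ, Finsupp.single_eq_of_ne' hi]
        · intro hn; rw [Finsupp.notMem_support_iff.1 hn]; simp
      rw [← h0, Finsupp.zero_apply]
      refine hzn ψ fun n a x hx => ?_
      obtain ⟨c, hc⟩ := Ideal.Quotient.mk_surjective (b.repr a j)
      show (b.repr a j) • x ∈ _
      rw [← hc, ← Ideal.Quotient.algebraMap_eq, algebraMap_smul]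
      exact Submodule.smul_of_tower_mem _ c hx
    rw [hf, map_zero]
  · -- a unit of `k'` kills everything
    push_neg at hk
    obtain ⟨a, ha, ha0⟩ := hk
    have : (algebraMap A k' a) • z = 0 := by
      rw [algebraMap_smul]
      clear hzn hw
      induction z using TensorProduct.induction_on with
      | zero => rw [smul_zero]
      | add p q hp hq => rw [smul_add, hp, hq, add_zero]
      | tmul c x => rw [← TensorProduct.tmul_smul, hX a ha x, TensorProduct.tmul_zero]
    exact (smul_eq_zero.1 this).resolve_left ha0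

end Residue

section Fibre

variable {A B A' T : Type u} [CommRing A] [IsLocalRing A] [CommRing B] [Algebra A B] [CommRing A'] [IsLocalRing A']
  [Algebra A A'] [CommRing T] [Algebra A T] [Algebra A' T] [Algebra B T] [IsScalarTower A A' T] [IsScalarTower A B T]
  [Algebra.IsPushout A A' B T]
  {U : Type u} [CommRing U] [Algebra T U] [Algebra (IsLocalRing.ResidueField A') U] [Algebra A U] [Algebra B U]
  [Algebra A' U] [IsScalarTower A' T U] [IsScalarTower A' (IsLocalRing.ResidueField A') U]
  [IsScalarTower A (IsLocalRing.ResidueField A') U] [IsScalarTower A B U] [IsScalarTower B T U]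
  [IsScalarTower A A' (IsLocalRing.ResidueField A')] [Algebra.IsPushout A (IsLocalRing.ResidueField A') B U]

include A A' B in
/-- The fibre ring is a quotient. -/
theorem surjective_of_pushout : Function.Surjective (algebraMap T U) := by
  intro u
  obtain ⟨z, rfl⟩ := (Algebra.IsPushout.equiv A (IsLocalRing.ResidueField A') B U).surjective u
  induction z using TensorProduct.induction_on with
  | zero => exact ⟨0, by simp⟩
  | add x y hx hy =>
    obtain ⟨a, ha⟩ := hx
    obtain ⟨b, hb⟩ := hy
    exact ⟨a + b, by simp [ha, hb]⟩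
  | tmul a b =>
    obtain ⟨a, rfl⟩ := IsLocalRing.residue_surjective a
    refine ⟨algebraMap A' T a * algebraMap B T b, ?_⟩
    rw [map_mul, ← IsScalarTower.algebraMap_apply, ← IsScalarTower.algebraMap_apply,
      IsScalarTower.algebraMap_apply A' (IsLocalRing.ResidueField A') U, Algebra.IsPushout.equiv_tmul]
    rfl

/-- Reduction from a vector space over the residue field of `A'` to the residue field itself. -/
theorem eq_zero_of_detect_module {R : Type u} [CommRing R] [IsLocalRing R] [IsNoetherianRing R] [Algebra A R]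
    [Algebra B R] [IsScalarTower A B R] (S : Set (Ideal T))
    (hdet : ∀ e : U ⊗[B] IsLocalRing.ResidueField R, (∀ P ∈ S, ∃ s ∉ P, algebraMap T U s • e = 0) → e = 0)
    (hS : ∀ P ∈ S, RingHom.ker (algebraMap T U) ≤ P)
    (hm : ∀ a ∈ IsLocalRing.maximalIdeal A, algebraMap A R a ∈ IsLocalRing.maximalIdeal R)
    (X : Type u) [AddCommGroup X] [Module A X] [Module B X] [Module R X] [IsScalarTower A B X] [IsScalarTower B R X]
    [IsScalarTower A R X] [Module.Finite R X] (hX : ∀ a ∈ IsLocalRing.maximalIdeal A, ∀ x : X, a • x = 0)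
    (V : Type u) [AddCommGroup V] [Module A' V] (hV : ∀ a ∈ IsLocalRing.maximalIdeal A', ∀ v : V, a • v = 0)
    (w : (T ⊗[B] X) ⊗[A'] V) (hw : ∀ P ∈ S, ∃ s ∉ P, s • w = 0) : w = 0 := by
  classical
  let k' := IsLocalRing.ResidueField A'
  let m' := IsLocalRing.maximalIdeal A'
  have tV : Module.IsTorsionBySet A' V (m' : Set A') := fun x a => hV a.1 a.2 x
  letI : Module k' V := tV.module
  haveI : IsScalarTower A' k' V := tV.isScalarTower
  let b := Module.Free.chooseBasis k' V
  let π : T ⊗[B] X →ₗ[T] U ⊗[B] X := AlgebraTensorModule.map (Algebra.linearMap T U) LinearMap.id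
  let Θ : (Module.Free.ChooseBasisIndex k' V →₀ T ⊗[B] X) →ₗ[A'] (T ⊗[B] X) ⊗[A'] V :=
    Finsupp.lsum A' fun j => (TensorProduct.mk A' (T ⊗[B] X) V).flip (b j)
  have hΘ : ∀ v, ∃ f, Θ f = v := by
    intro v
    induction v using TensorProduct.induction_on with
    | zero => exact ⟨0, map_zero _⟩
    | add a c ha hc =>
      obtain ⟨f, rfl⟩ := ha
      obtain ⟨g, rfl⟩ := hc
      exact ⟨f + g, map_add _ _ _⟩
    | tmul z v =>
      choose lift hlift using fun j => IsLocalRing.residue_surjective (b.repr v j)
      refine ⟨∑ j ∈ (b.repr v).support, Finsupp.single j (lift j • z), ?_⟩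
      rw [map_sum]
      conv_rhs => rw [← b.linearCombination_repr v, Finsupp.linearCombination_apply, Finsupp.sum, TensorProduct.tmul_sum]
      refine Finset.sum_congr rfl fun j _ => ?_
      simp only [Θ, Finsupp.lsum_single, LinearMap.flip_apply, TensorProduct.mk_apply]
      rw [TensorProduct.smul_tmul, ← hlift j, ← IsLocalRing.ResidueField.algebraMap_eq, algebraMap_smul]
  obtain ⟨f, rfl⟩ := hΘ w
  have hf : ∀ j, π (f j) = 0 := by
    intro j
    let χ : (T ⊗[B] X) ⊗[A'] V →ₗ[A'] U ⊗[B] X := TensorProduct.lift
      (LinearMap.mk₂ A' (fun (z : T ⊗[B] X) (v : V) => (b.repr v j) • π z)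
        (fun z z' v => by rw [map_add, smul_add])
        (fun c z v => by rw [LinearMap.map_smul_of_tower, smul_comm])
        (fun z v v' => by rw [map_add, Finsupp.add_apply, add_smul])
        (fun c z v => by rw [← algebraMap_smul k' c v, map_smul, Finsupp.smul_apply, smul_assoc, algebraMap_smul]))
    have hχ : ∀ (s : T) (v : (T ⊗[B] X) ⊗[A'] V), χ (s • v) = algebraMap T U s • χ v := by
      intro s v
      induction v using TensorProduct.induction_on with
      | zero => simp
      | add a c ha hc => simp only [smul_add, map_add, ha, hc]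
      | tmul z v =>
        rw [TensorProduct.smul_tmul']
        simp only [χ, TensorProduct.lift.tmul, LinearMap.mk₂_apply]
        rw [map_smul, algebraMap_smul, smul_comm]
    have h0 : χ (Θ f) = π (f j) := by
      simp only [Θ, Finsupp.lsum_apply, Finsupp.sum, map_sum]
      rw [Finset.sum_eq_single j]
      · simp [χ]
      · intro i _ hi; simp [χ, Finsupp.single_eq_of_ne' hi]
      · intro hn; rw [Finsupp.notMem_support_iff.1 hn]; simp
    refine eq_zero_of_detect (A := A) (k' := k') (R := R) {Q | ∃ P ∈ S, ∀ s : T, algebraMap T U s ∈ Q → s ∈ P}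
      (fun e he => hdet e fun P hP => ?_) hm X hX _ fun Q hQ => ?_
    · obtain ⟨u, hu, hue⟩ := he (Ideal.map (algebraMap T U) P) ⟨P, hP, fun s hs => by
        have h1 : s ∈ (Ideal.map (algebraMap T U) P).comap (algebraMap T U) := hs
        rwa [Ideal.comap_map_of_surjective _ (surjective_of_pushout (A := A) (A' := A') (B := B) (T := T)),
          ← RingHom.ker_eq_comap_bot, sup_eq_left.2 (hS P hP)] at h1⟩
      obtain ⟨s, rfl⟩ := surjective_of_pushout (A := A) (A' := A') (B := B) (T := T) u
      exact ⟨s, fun h => hu (Ideal.mem_map_of_mem _ h), hue⟩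
    · obtain ⟨P, hP, hPQ⟩ := hQ
      obtain ⟨s, hs, hsw⟩ := hw P hP
      refine ⟨algebraMap T U s, fun h => hs (hPQ s h), ?_⟩
      rw [← h0, ← hχ, hsw, map_zero]
  -- the kernel of `π` dies in the tensor product with `V`
  simp only [Θ, Finsupp.lsum_apply, Finsupp.sum]
  refine Finset.sum_eq_zero fun j _ => ?_
  show f j ⊗ₜ[A'] b j = 0
  let eT := Algebra.IsPushout.cancelBaseChange A A' B T X
  let eU := Algebra.IsPushout.cancelBaseChange A k' B U X
  obtain ⟨z, hz⟩ := eT.symm.surjective (f j)
  have hsq : ∀ z, π (eT.symm z) = eU.symm ((IsScalarTower.toAlgHom A A' k').toLinearMap.rTensor X z) := by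
    intro z
    induction z using TensorProduct.induction_on with
    | zero => simp
    | add a c ha hc => simp only [map_add, ha, hc]
    | tmul a x =>
      simp [π, eT, eU, ← IsScalarTower.algebraMap_apply A' T U, ← IsScalarTower.algebraMap_apply A' k' U]
  have h1 : (IsScalarTower.toAlgHom A A' k').toLinearMap.rTensor X z = 0 :=
    eU.symm.injective (by rw [← hsq, hz, hf j, map_zero])
  obtain ⟨y, rfl⟩ := ((rTensor_exact X (show Function.Exact ((m'.restrictScalars A).subtype)
    (IsScalarTower.toAlgHom A A' k').toLinearMap from fun a => by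
      simp only [Submodule.coe_subtype, Subtype.range_coe_subtype, Set.mem_setOf_eq, AlgHom.toLinearMap_apply, IsScalarTower.coe_toAlgHom']; exact (IsLocalRing.residue_eq_zero_iff a)) IsLocalRing.residue_surjective) z).1 h1
  rw [← hz]
  clear hz h1
  induction y using TensorProduct.induction_on with
  | zero => simp
  | add a c ha hc => rw [map_add, map_add, TensorProduct.add_tmul, ha, hc, add_zero]
  | tmul a x =>
    rw [LinearMap.rTensor_tmul, Submodule.subtype_apply,
      Algebra.IsPushout.cancelBaseChange_symm_tmul]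
    have : algebraMap A' T a.1 ⊗ₜ[B] x = a.1 • ((1 : T) ⊗ₜ[B] x) := by
      rw [TensorProduct.smul_tmul', Algebra.smul_def, mul_one]
    rw [this, TensorProduct.smul_tmul, hV a.1 a.2, TensorProduct.tmul_zero]

end Fibre

end Groth.Agent.FlatFam
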