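import Mathlib
import Groth.Agent.FlatFam.Detect
import Groth.Agent.FlatArt.Basic
import Groth.Agent.MLMod.FlatNil
import Groth.Agent.FlatGr.Basic

/-!
Flatness over an artinian ring detected by families of base changes (EGA IV 11.5).
-/

universe u

namespace Groth.Agent.FlatFam

open TensorProduct IsLocalRing

set_option linter.style.haveILetI false

/-- The points of `S` detect the zero element of the fibre ring over `q`. -/
def Detects (A B : Type u) [CommRing A] [CommRing B] [Algebra A B] (q : Ideal B) [q.IsPrime] (A' T : Type u)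
    [CommRing A'] [IsLocalRing A'] [Algebra A A'] [CommRing T] [Algebra A T] [Algebra A' T] [Algebra B T]
    (S : Set (Ideal T)) : Prop :=
  ∀ (U : Type u) [CommRing U] [Algebra T U] [Algebra (ResidueField A') U] [Algebra A U] [Algebra B U]
    [Algebra A' U] [IsScalarTower A' T U] [IsScalarTower A' (ResidueField A') U]
    [IsScalarTower A (ResidueField A') U] [IsScalarTower A B U] [IsScalarTower B T U]
    [Algebra.IsPushout A (ResidueField A') B U] (e : U ⊗[B] q.ResidueField),
    (∀ P ∈ S, ∃ s ∉ P, algebraMap T U s • e = 0) → e = 0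

/-- All the points over `q` and the closed point detect zero. -/
theorem detects_all {A B : Type u} [CommRing A] [CommRing B] [Algebra A B] (q : Ideal B) [q.IsPrime]
    (A' T : Type u) [CommRing A'] [IsLocalRing A'] [Algebra A A'] [CommRing T] [Algebra A T] [Algebra A' T]
    [Algebra B T] :
    Detects A B q A' T {P | P.IsPrime ∧ P.comap (algebraMap B T) = q ∧
      P.comap (algebraMap A' T) = maximalIdeal A'} := by
  intro U _ _ _ _ _ _ _ _ _ _ _ _ e he
  by_contra hne
  let W := U ⊗[B] q.ResidueField
  let J : Ideal W := Ideal.torsionOf W W e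
  have hJ : J ≠ ⊤ := fun h => hne (by
    have h1 : (1 : W) ∈ J := h ▸ Submodule.mem_top
    rwa [Ideal.mem_torsionOf_iff, one_smul] at h1)
  obtain ⟨Q, hQ, hJQ⟩ := Ideal.exists_le_maximal J hJ
  let P : Ideal T := Q.comap ((algebraMap U W).comp (algebraMap T U))
  haveI := hQ.isPrime
  have hPb : P.comap (algebraMap B T) = q := by
    ext b
    have hb : algebraMap U W (algebraMap T U (algebraMap B T b)) = (1 : U) ⊗ₜ[B] algebraMap B q.ResidueField b := by
      rw [← IsScalarTower.algebraMap_apply B T U, Algebra.TensorProduct.algebraMap_apply,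
        Algebra.algebraMap_self_apply, Algebra.algebraMap_eq_smul_one, TensorProduct.smul_tmul,
        ← Algebra.algebraMap_eq_smul_one]
    show algebraMap U W (algebraMap T U (algebraMap B T b)) ∈ Q ↔ b ∈ q
    rw [hb]
    constructor
    · intro h
      by_contra hbq
      refine hQ.ne_top (Ideal.eq_top_of_isUnit_mem _ h ?_)
      exact (isUnit_iff_ne_zero.2 (fun h0 => hbq (Ideal.algebraMap_residueField_eq_zero.1 h0))).map
        (Algebra.TensorProduct.includeRight : q.ResidueField →ₐ[B] U ⊗[B] q.ResidueField)
    · intro h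
      rw [Ideal.algebraMap_residueField_eq_zero.2 h, TensorProduct.tmul_zero]
      exact Q.zero_mem
  have hPa : P.comap (algebraMap A' T) = maximalIdeal A' := by
    ext a
    show algebraMap U W (algebraMap T U (algebraMap A' T a)) ∈ Q ↔ _
    rw [← IsScalarTower.algebraMap_apply A' T U, IsScalarTower.algebraMap_apply A' (ResidueField A') U]
    constructor
    · intro h
      by_contra ha
      refine hQ.ne_top (Ideal.eq_top_of_isUnit_mem _ h ?_)
      exact ((isUnit_iff_ne_zero.2 (fun h0 => ha ((residue_eq_zero_iff a).1 h0))).map _).map _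
    · intro h
      rw [show algebraMap A' (ResidueField A') a = 0 from (residue_eq_zero_iff a).2 h, map_zero, map_zero]
      exact Q.zero_mem
  obtain ⟨s, hs, hse⟩ := he P ⟨Ideal.IsPrime.comap _, hPb, hPa⟩
  refine hs (hJQ ((Ideal.mem_torsionOf_iff _ _).2 ?_))
  show algebraMap U W (algebraMap T U s) • e = 0
  rw [algebraMap_smul, hse]

/-- For a primary residue extension a single point detects zero. -/
theorem detects_primary {A B : Type u} [CommRing A] [IsLocalRing A] [CommRing B] [Algebra A B] (q : Ideal B)
    [q.IsPrime] [Algebra (ResidueField A) q.ResidueField] [IsScalarTower A (ResidueField A) q.ResidueField]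
    (hprim : ∀ a : q.ResidueField, IsSeparable (ResidueField A) a → a ∈ (algebraMap (ResidueField A) q.ResidueField).range)
    (A' T : Type u) [CommRing A'] [IsLocalRing A'] [Algebra A A'] [IsLocalHom (algebraMap A A')] [CommRing T]
    [Algebra A T] [Algebra A' T] [Algebra B T] [IsScalarTower A A' T] [IsScalarTower A B T]
    [Algebra.IsPushout A A' B T] (P : Ideal T) [P.IsPrime] (hPq : P.comap (algebraMap B T) = q)
    (hPm : P.comap (algebraMap A' T) = maximalIdeal A') :
    Detects A B q A' T {P} := by
  intro U _ _ _ _ _ _ _ _ _ _ _ _ e he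
  obtain ⟨s, hs, hse⟩ := he P rfl
  let k := ResidueField A
  let k' := ResidueField A'
  let κ := q.ResidueField
  let W := U ⊗[B] κ
  haveI : IsScalarTower A k k' := IsScalarTower.of_algebraMap_eq fun a => rfl
  haveI : CompatibleSMul A k k' κ := ⟨fun r a b => by
    obtain ⟨r, rfl⟩ := residue_surjective r
    rw [← ResidueField.algebraMap_eq, algebraMap_smul, algebraMap_smul, smul_tmul]⟩
  let Φ : W →ₐ[A] k' ⊗[k] κ :=
    ((Algebra.TensorProduct.equivOfCompatibleSMul k A A k' κ).toAlgHom).comp
      ((Algebra.IsPushout.cancelBaseChangeAlg A k' B U κ).toAlgHom.restrictScalars A)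
  have hΦ : Function.Injective Φ :=
    (Algebra.TensorProduct.equivOfCompatibleSMul k A A k' κ).injective.comp
      (Algebra.IsPushout.cancelBaseChangeAlg A k' B U κ).injective
  let sW : W := algebraMap U W (algebraMap T U s)
  have hsW : sW * e = 0 := by
    show algebraMap U W (algebraMap T U s) * e = 0
    rw [← Algebra.smul_def]; exact hse
  have hnil : ¬ IsNilpotent sW := by
    intro hn
    let K := P.ResidueField
    letI : Algebra A K := ((algebraMap T K).comp (algebraMap A T)).toAlgebra
    haveI : IsScalarTower A T K := IsScalarTower.of_algebraMap_eq fun _ => rfl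
    let fk : k' →+* K := Ideal.Quotient.lift (maximalIdeal A') ((algebraMap T K).comp (algebraMap A' T))
      fun a ha => Ideal.algebraMap_residueField_eq_zero.2 (by rw [← hPm] at ha; exact ha)
    let fkA : k' →ₐ[A] K := ⟨fk, fun a => by
      show algebraMap T K (algebraMap A' T (algebraMap A A' a)) = algebraMap T K (algebraMap A T a)
      rw [← IsScalarTower.algebraMap_apply A A' T]⟩
    let fB : B →ₐ[A] K := (IsScalarTower.toAlgHom A T K).comp (IsScalarTower.toAlgHom A B T)
    let ρU : U →ₐ[A] K := Algebra.pushoutDesc U fkA fB fun _ _ => mul_comm _ _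
    have hρ : ∀ t : T, ρU (algebraMap T U t) = algebraMap T K t := by
      intro t
      obtain ⟨z, rfl⟩ := (Algebra.IsPushout.equiv A A' B T).surjective t
      induction z using TensorProduct.induction_on with
      | zero => simp
      | add x y hx hy => simp only [map_add, hx, hy]
      | tmul a b =>
        rw [Algebra.IsPushout.equiv_tmul, map_mul, map_mul, map_mul, ← IsScalarTower.algebraMap_apply A' T U,
          ← IsScalarTower.algebraMap_apply B T U, IsScalarTower.algebraMap_apply A' k' U]
        simp only [ρU, Algebra.pushoutDesc_left, Algebra.pushoutDesc_right]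
        rfl
    let ρU' : U →ₐ[B] K := ⟨ρU.toRingHom, fun b => by
      show ρU (algebraMap B U b) = _
      simp only [ρU, Algebra.pushoutDesc_right]
      exact (IsScalarTower.algebraMap_apply B T K b).symm⟩
    let ρκ : κ →ₐ[B] K := Ideal.ResidueField.mapₐ q P (Algebra.ofId B T) hPq.symm
    let ρ : W →ₐ[B] K := Algebra.TensorProduct.lift ρU' ρκ fun _ _ => Commute.all _ _
    have h1 : ρ sW = algebraMap T K s := by
      show ρ (algebraMap T U s ⊗ₜ[B] (1 : κ)) = _
      rw [Algebra.TensorProduct.lift_tmul, map_one, mul_one]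
      exact hρ s
    exact hs (Ideal.algebraMap_residueField_eq_zero.1 ((h1 ▸ hn.map ρ).eq_zero))
  apply hΦ
  rw [map_zero]
  refine isNilpotent_or_regular hprim (Φ sW) _ (fun h => hnil ((IsNilpotent.map_iff hΦ).1 h)) ?_
  rw [← map_mul, hsW, map_zero]

/-- Elements dying in the fibre ring lie in the points over the closed point. -/
theorem mem_of_map_eq_zero {A A' B T U : Type u} [CommRing A] [CommRing A'] [IsLocalRing A'] [CommRing B]
    [Algebra A A'] [Algebra A B] [CommRing T] [Algebra A T] [Algebra A' T] [Algebra B T] [IsScalarTower A A' T]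
    [IsScalarTower A B T] [Algebra.IsPushout A A' B T] [CommRing U] [Algebra T U] [Algebra (ResidueField A') U]
    [Algebra A U] [Algebra B U] [Algebra A' U] [IsScalarTower A' T U] [IsScalarTower A' (ResidueField A') U]
    [IsScalarTower A (ResidueField A') U] [IsScalarTower A B U] [IsScalarTower B T U]
    [Algebra.IsPushout A (ResidueField A') B U] (P : Ideal T) [P.IsPrime]
    (hPm : P.comap (algebraMap A' T) = maximalIdeal A') (t : T) (ht : algebraMap T U t = 0) : t ∈ P := by
  let k' := ResidueField A'
  let K := T ⧸ P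
  let fk : k' →ₐ[A] K := ⟨Ideal.Quotient.lift (maximalIdeal A') ((Ideal.Quotient.mk P).comp (algebraMap A' T))
    (fun a ha => Ideal.Quotient.eq_zero_iff_mem.2 (by rw [← hPm] at ha; exact ha)), fun a => by
      show Ideal.Quotient.mk P (algebraMap A' T (algebraMap A A' a)) = _
      rw [← IsScalarTower.algebraMap_apply A A' T]; rfl⟩
  let ρ : U →ₐ[A] K := Algebra.pushoutDesc U fk ((Ideal.Quotient.mkₐ A P).comp (IsScalarTower.toAlgHom A B T))
    fun _ _ => mul_comm _ _
  have hρ : ∀ x : T, ρ (algebraMap T U x) = Ideal.Quotient.mk P x := by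
    intro x
    obtain ⟨z, rfl⟩ := (Algebra.IsPushout.equiv A A' B T).surjective x
    induction z using TensorProduct.induction_on with
    | zero => simp
    | add x y hx hy => simp only [map_add, hx, hy]
    | tmul a b =>
      rw [Algebra.IsPushout.equiv_tmul, map_mul, map_mul, map_mul, ← IsScalarTower.algebraMap_apply A' T U,
        ← IsScalarTower.algebraMap_apply B T U, IsScalarTower.algebraMap_apply A' k' U]
      simp only [ρ, Algebra.pushoutDesc_left, Algebra.pushoutDesc_right]
      rfl
  exact Ideal.Quotient.eq_zero_iff_mem.1 (by rw [← hρ, ht, map_zero])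

/-- Elements of `X ⊗ V` dying in `X ⊗ C` die at the points where the localisation is flat. -/
theorem exists_smul_eq_zero {A' T X Y V C : Type u} [CommRing A'] [CommRing T] [Algebra A' T] {P : Ideal T} [P.IsPrime]
    [AddCommGroup X] [Module A' X] [Module T X] [IsScalarTower A' T X] [AddCommGroup Y] [Module A' Y] [Module T Y]
    [IsScalarTower A' T Y] [Module.Flat A' Y] [AddCommGroup V] [Module A' V] [AddCommGroup C] [Module A' C]
    (i : V →ₗ[A'] C) (hi : Function.Injective i) (f : X →ₗ[T] Y) [IsLocalizedModule P.primeCompl f]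
    (z : X ⊗[A'] V) (hz : i.lTensor X z = 0) : ∃ s ∉ P, s • z = 0 := by
  let fV : X ⊗[A'] V →ₗ[T] Y ⊗[A'] V := AlgebraTensorModule.rTensor A' V f
  have h1 : fV z = 0 := by
    refine Module.Flat.lTensor_preserves_injective_linearMap (M := Y) i hi ?_
    rw [map_zero]
    show i.lTensor Y ((f.restrictScalars A').rTensor V z) = 0
    rw [← LinearMap.comp_apply, LinearMap.lTensor_comp_rTensor, ← LinearMap.rTensor_comp_lTensor,
      LinearMap.comp_apply, hz, map_zero]
  obtain ⟨s, hs⟩ := (IsLocalizedModule.eq_zero_iff P.primeCompl fV).1 h1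
  exact ⟨s.1, s.2, hs⟩

/-- Base change of a killed module to the reduction loses nothing. -/
theorem tmul_eq_zero_of_mkQ {A L N V : Type u} [CommRing A] [CommRing L] [Algebra A L] (m : Ideal A) [AddCommGroup N]
    [Module A N] [Module L N] [IsScalarTower A L N] [AddCommGroup V] [Module A V]
    (hV : ∀ a ∈ m, ∀ x : V, a • x = 0) (z : V ⊗[A] N)
    (hz : ((Submodule.mkQ (m.map (algebraMap A L) • (⊤ : Submodule L N))).restrictScalars A).lTensor V z = 0) :
    z = 0 := by
  let Z : Submodule L N := m.map (algebraMap A L) • ⊤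
  have hex : Function.Exact (Z.subtype.restrictScalars A) (Z.mkQ.restrictScalars A) :=
    LinearMap.exact_subtype_mkQ Z
  obtain ⟨y, rfl⟩ := ((lTensor_exact V hex Z.mkQ_surjective) z).1 hz
  clear hz
  induction y using TensorProduct.induction_on with
  | zero => exact map_zero _
  | add a b ha hb => rw [map_add, ha, hb, add_zero]
  | tmul x n =>
    obtain ⟨n, hn⟩ := n
    rw [LinearMap.lTensor_tmul]
    show x ⊗ₜ[A] n = 0
    refine Submodule.smul_induction_on hn (fun c hc y _ => ?_) (fun y z h1 h2 => by rw [TensorProduct.tmul_add, h1, h2, add_zero])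
    refine Submodule.span_induction (p := fun c _ => ∀ y : N, x ⊗ₜ[A] (c • y) = 0) ?_ ?_ ?_ ?_ hc y
    · rintro _ ⟨a, ha, rfl⟩ y
      rw [algebraMap_smul, ← TensorProduct.smul_tmul, hV a ha, TensorProduct.zero_tmul]
    · intro y; rw [zero_smul, TensorProduct.tmul_zero]
    · intro c d _ _ h1 h2 y; rw [add_smul, TensorProduct.tmul_add, h1, h2, add_zero]
    · intro r c _ h1 y; rw [smul_eq_mul, mul_comm, mul_smul]; exact h1 (r • y)

variable {A B : Type u} [CommRing A] [IsArtinianRing A] [IsLocalRing A] [CommRing B] [Algebra A B]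

/-- The flattening ideal dies in a base change which is flat at a detecting set of points. -/
theorem map_eq_bot {q : Ideal B} [q.IsPrime] [IsNoetherianRing (Localization.AtPrime q)] (N : Type u)
    [AddCommGroup N] [Module A N] [Module B N] [Module (Localization.AtPrime q) N] [IsScalarTower A B N]
    [IsScalarTower B (Localization.AtPrime q) N] [IsScalarTower A (Localization.AtPrime q) N]
    [Module.Finite (Localization.AtPrime q) N] (I : Ideal A)
    (hI : ∀ (A' : Type u) [CommRing A'] [Algebra A A'], Module.Flat A' (A' ⊗[A] N) ↔ I.map (algebraMap A A') = ⊥)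
    (A' T : Type u) [CommRing A'] [IsLocalRing A'] [Algebra A A'] [IsLocalHom (algebraMap A A')] [CommRing T]
    [Algebra A T] [Algebra A' T] [Algebra B T] [IsScalarTower A A' T] [IsScalarTower A B T]
    [Algebra.IsPushout A A' B T] (S : Set (Ideal T))
    (hS : ∀ P ∈ S, ∃ _ : P.IsPrime, P.comap (algebraMap A' T) = maximalIdeal A' ∧
      Module.Flat A' (Localization.AtPrime P ⊗[B] N))
    (hdet : Detects A B q A' T S) :
    I.map (algebraMap A A') = ⊥ := by
  classical
  let m := maximalIdeal A
  let m' := maximalIdeal A'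
  -- `I` is proper
  have hIm : I ≤ m := by
    let k := A ⧸ m
    letI : Field k := Ideal.Quotient.field _
    have h1 : I.map (algebraMap A k) = ⊥ := (hI k).1 inferInstance
    rwa [Ideal.map_eq_bot_iff_le_ker, Ideal.Quotient.algebraMap_eq, Ideal.mk_ker] at h1
  haveI : IsNoetherianRing A := inferInstance
  let Ī := I.map (algebraMap A A')
  have hfg : Ī.FG := Ideal.FG.map (IsNoetherian.noetherian I) _
  by_contra hne
  let L : Ideal A' := m' * Ī
  let C := A' ⧸ L
  let K : Ideal A := L.comap (algebraMap A A')
  have hmm : ∀ a ∈ m, algebraMap A A' a ∈ m' := fun a ha => map_nonunit (algebraMap A A') a ha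
  suffices hkey : Module.Flat (A ⧸ K) ((A ⧸ K) ⊗[A] N) by
    have h1 := (hI (A ⧸ K)).1 hkey
    rw [Ideal.map_eq_bot_iff_le_ker, Ideal.Quotient.algebraMap_eq, Ideal.mk_ker] at h1
    exact hne (Submodule.eq_bot_of_le_smul_of_le_jacobson_bot m' Ī hfg (Ideal.map_le_iff_le_comap.2 h1)
      (maximalIdeal_le_jacobson ⊥))
  let R := A ⧸ K
  let Ib : Ideal R := I.map (algebraMap A R)
  haveI : Module.Flat (R ⧸ Ib) ((R ⧸ Ib) ⊗[R] (R ⊗[A] N)) := by
    haveI : Module.Flat (R ⧸ Ib) ((R ⧸ Ib) ⊗[A] N) := (hI (R ⧸ Ib)).2 (by
      rw [IsScalarTower.algebraMap_eq A R (R ⧸ Ib), ← Ideal.map_map, Ideal.Quotient.algebraMap_eq Ib,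
        Ideal.map_quotient_self])
    exact Module.Flat.of_linearEquiv (AlgebraTensorModule.cancelBaseChange A R (R ⧸ Ib) (R ⧸ Ib) N)
  have hmI : ∀ a ∈ m, ∀ b ∈ I, a * b ∈ K := fun a ha b hb => by
    show algebraMap A A' (a * b) ∈ L
    rw [map_mul]; exact Ideal.mul_mem_mul (hmm a ha) (Ideal.mem_map_of_mem _ hb)
  refine Groth.Agent.MLMod.flat_of_nilpotent (M := R ⊗[A] N) Ib ⟨2, ?_⟩ ?_
  · rw [pow_two, ← Ideal.map_mul, Ideal.zero_eq_bot, Ideal.map_eq_bot_iff_le_ker, Ideal.Quotient.algebraMap_eq,
      Ideal.mk_ker]
    exact Ideal.mul_le.2 fun a ha b hb => hmI a (hIm ha) b hb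
  -- the map to `C`
  let v₀ : R →ₗ[A] C := Submodule.mapQ K (L.restrictScalars A) (Algebra.linearMap A A') fun a ha => ha
  have hv₀ : Function.Injective v₀ := by
    rw [injective_iff_map_eq_zero]
    intro x hx
    obtain ⟨x, rfl⟩ := Submodule.Quotient.mk_surjective _ x
    exact (Submodule.Quotient.mk_eq_zero _).2 ((Submodule.Quotient.mk_eq_zero L).1 hx)
  let V : Submodule A' C := Submodule.map (Submodule.mkQ L) (Ī : Submodule A' A')
  have hV : ∀ a ∈ m', ∀ v : V, a • v = 0 := by
    rintro a ha ⟨_, b, hb, rfl⟩
    refine Subtype.ext ?_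
    show a • Submodule.mkQ L b = 0
    rw [← map_smul]
    exact (Submodule.Quotient.mk_eq_zero L).2 (Ideal.mul_mem_mul ha hb)
  let v : Ib →ₗ[A] V := LinearMap.codRestrict (V.restrictScalars A) (v₀.comp (Ib.subtype.restrictScalars A))
    fun x => by
      obtain ⟨x, hx⟩ := x
      obtain ⟨a, ha, rfl⟩ := (Ideal.mem_map_iff_of_surjective _ Ideal.Quotient.mk_surjective).1 hx
      exact ⟨algebraMap A A' a, Ideal.mem_map_of_mem _ ha, rfl⟩
  have hv : Function.Injective v := fun x y h => Subtype.ext (hv₀ (congrArg Subtype.val h))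
  have hkV : ∀ a ∈ m, ∀ x : V, a • x = 0 := fun a ha x => by
    rw [← algebraMap_smul A' a x]; exact hV _ (hmm a ha) x
  have hkI : ∀ a ∈ m, ∀ x : Ib, a • x = 0 := fun a ha x => hv (by rw [map_smul, map_zero, hkV a ha])
  obtain ⟨r, hr⟩ := exists_retraction hkI hkV v hv
  -- injectivity
  have hinjA : Function.Injective ((Ib.subtype.restrictScalars A).rTensor N) := by
    rw [injective_iff_map_eq_zero]
    intro w hw
    suffices hz : v.rTensor N w = 0 by
      have h1 := congrArg (r.rTensor N) hz
      rwa [← LinearMap.comp_apply, ← LinearMap.rTensor_comp, hr, LinearMap.rTensor_id, map_zero] at h1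
    -- move to the fibre
    let P₀ := (A' ⊗[A] N)
    let eT := Algebra.IsPushout.cancelBaseChange A A' B T N
    let Γ : ∀ (X : Type u) [AddCommGroup X] [Module A X] [Module A' X] [IsScalarTower A A' X],
        X ⊗[A] N ≃ₗ[A'] (T ⊗[B] N) ⊗[A'] X := fun X _ _ _ _ =>
      ((AlgebraTensorModule.cancelBaseChange A A' A' X N).symm.trans
        (AlgebraTensorModule.congr (LinearEquiv.refl A' X) eT.symm)).trans (TensorProduct.comm A' X (T ⊗[B] N))
    have hsqΓ : ∀ z : V ⊗[A] N, Γ C ((V.subtype.restrictScalars A).rTensor N z) =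
        V.subtype.lTensor (T ⊗[B] N) (Γ V z) := by
      intro z
      induction z using TensorProduct.induction_on with
      | zero => simp
      | add a b ha hb => simp only [map_add, ha, hb]
      | tmul a n => simp [Γ, eT]
    have hw0 : V.subtype.lTensor (T ⊗[B] N) (Γ V (v.rTensor N w)) = 0 := by
      rw [← hsqΓ, ← LinearMap.comp_apply, ← LinearMap.rTensor_comp,
        show (V.subtype.restrictScalars A).comp v = v₀.comp (Ib.subtype.restrictScalars A) from rfl,
        LinearMap.rTensor_comp, LinearMap.comp_apply, hw, map_zero, map_zero]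
    -- pass to `N / mN`
    let Nb := N ⧸ m.map (algebraMap A (Localization.AtPrime q)) • (⊤ : Submodule (Localization.AtPrime q) N)
    let p : N →ₗ[B] Nb := (Submodule.mkQ _).restrictScalars B
    let pT : (T ⊗[B] N) ⊗[A'] V →ₗ[T] (T ⊗[B] Nb) ⊗[A'] V :=
      AlgebraTensorModule.rTensor A' V (AlgebraTensorModule.lTensor T T p)
    have hzero : pT (Γ V (v.rTensor N w)) = 0 := by
      let U := ResidueField A' ⊗[A] B
      letI : Algebra B U := Algebra.TensorProduct.rightAlgebra
      let fT : T →ₐ[A] U := Algebra.pushoutDesc T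
        ((Algebra.TensorProduct.includeLeft).comp (IsScalarTower.toAlgHom A A' (ResidueField A')))
        Algebra.TensorProduct.includeRight fun _ _ => mul_comm _ _
      letI : Algebra T U := fT.toRingHom.toAlgebra
      haveI : IsScalarTower A' T U := IsScalarTower.of_algebraMap_eq fun a => by
        show _ = fT (algebraMap A' T a)
        rw [Algebra.pushoutDesc_left]
        rfl
      haveI : IsScalarTower B T U := IsScalarTower.of_algebraMap_eq fun b => by
        show _ = fT (algebraMap B T b)
        rw [Algebra.pushoutDesc_right]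
        rfl
      refine eq_zero_of_detect_module (A := A) (R := Localization.AtPrime q) (U := U) S
        (fun e he => hdet U e he) (fun P hP => ?_) (fun a ha => ?_) Nb (fun a ha x => ?_) V hV _ fun P hP => ?_
      · obtain ⟨hPp, hPm, -⟩ := hS P hP
        intro t ht
        exact mem_of_map_eq_zero (A := A) (A' := A') (B := B) P hPm t ht
      · obtain ⟨n, hn⟩ := IsArtinianRing.isNilpotent_jacobson_bot (R := A)
        have ha' : IsNilpotent a := ⟨n, by
          have h2 : a ^ n ∈ ((⊥ : Ideal A).jacobson) ^ n :=
            Ideal.pow_mem_pow (maximalIdeal_le_jacobson ⊥ ha) n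
          rw [hn] at h2
          exact h2⟩
        by_contra hu
        exact (ha'.map (algebraMap A (Localization.AtPrime q))).not_isUnit (not_not.1 hu)
      · obtain ⟨x, rfl⟩ := Submodule.Quotient.mk_surjective _ x
        rw [← Submodule.Quotient.mk_smul, Submodule.Quotient.mk_eq_zero, ← algebraMap_smul (Localization.AtPrime q) a x]
        exact Submodule.smul_mem_smul (Ideal.mem_map_of_mem _ ha) Submodule.mem_top
      · obtain ⟨hPp, -, hflat⟩ := hS P hP
        haveI := hPp
        haveI := hflat
        let LP := Localization.AtPrime P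
        let eP := (AlgebraTensorModule.cancelBaseChange B T LP LP N).restrictScalars T
        haveI : IsLocalizedModule P.primeCompl
            (eP.toLinearMap ∘ₗ TensorProduct.mk T LP (T ⊗[B] N) 1) :=
          IsLocalizedModule.of_linearEquiv P.primeCompl (TensorProduct.mk T LP (T ⊗[B] N) 1) eP
        obtain ⟨s, hs, hse⟩ := exists_smul_eq_zero (P := P) (X := T ⊗[B] N) (Y := LP ⊗[B] N)
          V.subtype Subtype.val_injective (eP.toLinearMap ∘ₗ TensorProduct.mk T LP (T ⊗[B] N) 1) _ hw0
        exact ⟨s, hs, by rw [← map_smul, hse, map_zero]⟩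
    -- `pT` is injective
    let back : V ⊗[A] N ≃ₗ[A'] (T ⊗[B] N) ⊗[A'] V := Γ V
    let eNb := Algebra.IsPushout.cancelBaseChange A A' B T Nb
    have hsqp : ∀ z : V ⊗[A] N, pT (Γ V z) =
        ((AlgebraTensorModule.cancelBaseChange A A' A' V Nb).symm.trans
          ((AlgebraTensorModule.congr (LinearEquiv.refl A' V) eNb.symm).trans (TensorProduct.comm A' V (T ⊗[B] Nb))))
          ((p.restrictScalars A).lTensor V z) := by
      intro z
      induction z using TensorProduct.induction_on with
      | zero => simp
      | add a b ha hb => simp only [map_add, ha, hb]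
      | tmul a n => simp [Γ, eT, eNb, pT]
    rw [hsqp, LinearEquiv.map_eq_zero_iff] at hzero
    exact tmul_eq_zero_of_mkQ (L := Localization.AtPrime q) m hkV _ hzero
  -- transport
  let M₀ := R ⊗[A] N
  let e₁ := (AlgebraTensorModule.cancelBaseChange A R R Ib N)
  let e₂ := (AlgebraTensorModule.cancelBaseChange A R R R N)
  have hsq : ∀ z, e₂ (Ib.subtype.rTensor M₀ z) = (Ib.subtype.restrictScalars A).rTensor N (e₁ z) := by
    intro z
    induction z using TensorProduct.induction_on with
    | zero => simp
    | add a b ha hb => simp only [map_add, ha, hb]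
    | tmul x y =>
      induction y using TensorProduct.induction_on with
      | zero => simp
      | add a b ha hb => simp only [TensorProduct.tmul_add, map_add, ha, hb]
      | tmul c n =>
        erw [AlgebraTensorModule.cancelBaseChange_tmul]
  intro z z' h
  exact e₁.injective (hinjA (by rw [← hsq, ← hsq, h]))

end Groth.Agent.FlatFam
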