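import Mathlib
import Groth.Agent.FlatFam.Core
import Groth.Agent.FlatModBC.Basic
import Groth.Agent.LocFree.Rank
import Groth.Agent.QC.Coherent

/-!
Flatness over an artinian local scheme detected by base changes (scheme form).
-/

universe u

set_option autoImplicit false
set_option linter.style.haveILetI false
set_option backward.isDefEq.respectTransparency false

open CategoryTheory CategoryTheory.Limits AlgebraicGeometry TensorProduct

namespace Groth.Agent.FlatFam

variable {X S X' S' : Scheme.{u}} {f : X ⟶ S} {f' : X' ⟶ S'} {g' : X' ⟶ X} {g : S' ⟶ S}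

/-- Flatness of a pulled back module at a point, in charts. -/
theorem flat_tensor_of_isFlatOverAt (hc : IsPullback g' f' f g) (F : X.Modules) (hq : Coh.IsQCoh F)
    {V : S.Opens} {W : X.Opens} (hW : IsAffineOpen W) (e : W ≤ f ⁻¹ᵁ V)
    {O : S'.Opens} (hO : IsAffineOpen O) (x' : X') (hxW : g' x' ∈ W) (hxO : f' x' ∈ O)
    (hW' : IsAffineOpen (g' ⁻¹ᵁ W ⊓ f' ⁻¹ᵁ O)) (qp : PrimeSpectrum Γ(X, W))
    (hqp : hW.primeIdealOf ⟨g' x', hxW⟩ = qp)
    (h : FlatMod.IsFlatOverAt f' ((Scheme.Modules.pullback g').obj F) x') :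
    letI : Algebra Γ(X, W) Γ(X', g' ⁻¹ᵁ W ⊓ f' ⁻¹ᵁ O) := (g'.appLE W _ inf_le_left).hom.toAlgebra
    letI : Algebra Γ(S', O) Γ(X', g' ⁻¹ᵁ W ⊓ f' ⁻¹ᵁ O) := (f'.appLE O _ inf_le_right).hom.toAlgebra
    Module.Flat Γ(S', O) (Localization.AtPrime (hW'.primeIdealOf ⟨x', hxW, hxO⟩).asIdeal ⊗[Γ(X, W)]
      LocalizedModule qp.asIdeal.primeCompl Γ(F, W)) := by
  subst hqp
  let B := Γ(X, W)
  let C := Γ(S', O)
  let W' : X'.Opens := g' ⁻¹ᵁ W ⊓ f' ⁻¹ᵁ O
  let B' := Γ(X', W')
  have hxW' : x' ∈ W' := ⟨hxW, hxO⟩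
  letI : Algebra B B' := (g'.appLE W W' inf_le_left).hom.toAlgebra
  letI : Algebra C B' := (f'.appLE O W' inf_le_right).hom.toAlgebra
  let P := (hW'.primeIdealOf ⟨x', hxW'⟩).asIdeal
  let LP := Localization.AtPrime P
  let R := X.presheaf.stalk (g' x')
  let L := X'.presheaf.stalk x'
  let N : Type u := F.presheaf.stalk (g' x')
  letI : Algebra B R := (X.presheaf.germ W (g' x') hxW).hom.toAlgebra
  haveI : IsLocalization.AtPrime R (hW.primeIdealOf ⟨g' x', hxW⟩).asIdeal := hW.isLocalization_stalk ⟨_, hxW⟩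
  letI : Algebra B' L := (X'.presheaf.germ W' x' hxW').hom.toAlgebra
  haveI : IsLocalization.AtPrime L P := hW'.isLocalization_stalk ⟨_, hxW'⟩
  letI : Algebra R L := (g'.stalkMap x').hom.toAlgebra
  letI : Algebra B L := ((algebraMap B' L).comp (algebraMap B B')).toAlgebra
  haveI : IsScalarTower B B' L := IsScalarTower.of_algebraMap_eq fun _ => rfl
  haveI : IsScalarTower B R L := IsScalarTower.of_algebraMap_eq fun b =>
    (FibCrit.germ_comm g' W W' inf_le_left x' hxW' b).symm
  letI : Algebra C L := ((algebraMap B' L).comp (algebraMap C B')).toAlgebra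
  haveI : IsScalarTower C B' L := IsScalarTower.of_algebraMap_eq fun _ => rfl
  letI : Module B N := Module.compHom N (X.presheaf.germ W (g' x') hxW).hom
  haveI : IsScalarTower B R N := IsScalarTower.of_algebraMap_smul fun _ _ => rfl
  obtain ⟨eRB⟩ := FlatModBC.exists_equiv_of_localization (R := R) (L := L)
    (hW.primeIdealOf ⟨g' x', hxW⟩).asIdeal.primeCompl N
  let eP : ((Scheme.Modules.pullback g').obj F).presheaf.stalk x' ≃ₗ[L] L ⊗[R] N :=
    ((KFlat.pullStalkIso g' x').app F).toLinearEquiv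
  rw [FlatModB.isFlatOverAt_iff f' _ x' hO hxO] at h
  letI := FlatModB.stalkModule f' ((Scheme.Modules.pullback g').obj F) x' O hxO
  haveI := h
  haveI : IsScalarTower C L (((Scheme.Modules.pullback g').obj F).presheaf.stalk x') :=
    IsScalarTower.of_algebraMap_smul fun c m => by
      show ((X'.presheaf.germ W' x' hxW').hom ((f'.appLE O W' inf_le_right).hom c)) • m = _
      rw [← FibCrit.germ_comm f' O W' inf_le_right x' hxW' c]
      rfl
  haveI : Module.Flat C (L ⊗[B] N) := Module.Flat.of_linearEquiv ((eP.trans eRB.symm).restrictScalars C).symm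
  obtain ⟨gN, hgN⟩ := LocFree.exists_stalkMap hW hq hxW
  haveI := hgN
  let eN : LocalizedModule (hW.primeIdealOf ⟨g' x', hxW⟩).asIdeal.primeCompl Γ(F, W) ≃ₗ[B] N :=
    IsLocalizedModule.iso _ gN
  let eL : LP ≃ₗ[B'] L := (IsLocalization.algEquiv P.primeCompl LP L).toLinearEquiv
  exact Module.Flat.of_linearEquiv ((AlgebraTensorModule.congr eL eN).restrictScalars C)

/-- A closed point of a local affine scheme. -/
theorem eq_closedPoint {A : Type u} [CommRing A] [IsLocalRing A] (p : PrimeSpectrum A)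
    (h : IsClosed ({p} : Set (PrimeSpectrum A))) : p = IsLocalRing.closedPoint A :=
  PrimeSpectrum.ext (IsLocalRing.eq_maximalIdeal ((PrimeSpectrum.isClosed_singleton_iff_isMaximal p).1 h))

/-- Flatness over an artinian base, detected by all points or by one point and a primary residue extension. -/
theorem flat_of_families {A : Type u} [CommRing A] [IsArtinianRing A] [IsLocalRing A] {X : Scheme.{u}}
    (f : X ⟶ Spec (CommRingCat.of A)) [LocallyOfFiniteType f] (F : X.Modules) (hF : Coh.IsCoh F) (x : X)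
    {ι : Type u} (A' : ι → Type u) [∀ i, CommRing (A' i)] [∀ i, IsLocalRing (A' i)] (u : ∀ i, A →+* A' i)
    (hu : ∀ a : A, (∀ i, u i a = 0) → a = 0)
    (hflat : (∀ (i : ι) (x' : ↥(pullback f (Spec.map (CommRingCat.ofHom (u i))))),
        pullback.fst f (Spec.map (CommRingCat.ofHom (u i))) x' = x →
        pullback.snd f (Spec.map (CommRingCat.ofHom (u i))) x' = IsLocalRing.closedPoint (A' i) →
        FlatMod.IsFlatOverAt (pullback.snd f (Spec.map (CommRingCat.ofHom (u i))))
          ((Scheme.Modules.pullback (pullback.fst f (Spec.map (CommRingCat.ofHom (u i))))).obj F) x') ∨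
      ((letI := (f.residueFieldMap x).hom.toAlgebra
        ∀ a : ↑(X.residueField x), IsSeparable ↑((Spec (CommRingCat.of A)).residueField (f x)) a →
          a ∈ (f.residueFieldMap x).hom.range) ∧
        ∀ i : ι, ∃ x' : ↥(pullback f (Spec.map (CommRingCat.ofHom (u i)))),
          pullback.fst f (Spec.map (CommRingCat.ofHom (u i))) x' = x ∧
          pullback.snd f (Spec.map (CommRingCat.ofHom (u i))) x' = IsLocalRing.closedPoint (A' i) ∧
          FlatMod.IsFlatOverAt (pullback.snd f (Spec.map (CommRingCat.ofHom (u i))))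
            ((Scheme.Modules.pullback (pullback.fst f (Spec.map (CommRingCat.ofHom (u i))))).obj F) x')) :
    FlatMod.IsFlatOverAt f F x := by
  classical
  let S := Spec (CommRingCat.of A)
  let V : S.Opens := ⊤
  have hV : IsAffineOpen V := isAffineOpen_top S
  obtain ⟨W, hW, hxW, e⟩ := exists_isAffineOpen_mem_and_subset (X := X) (x := x) (U := f ⁻¹ᵁ V) trivial
  let A₀ := Γ(S, V)
  let eA : A₀ ≃+* A := (Scheme.ΓSpecIso (CommRingCat.of A)).commRingCatIsoToRingEquiv
  haveI : IsArtinianRing A₀ := RingEquiv.isArtinianRing eA.symm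
  haveI : IsLocalRing A₀ := eA.symm.isLocalRing
  let B := Γ(X, W)
  letI : Algebra A₀ B := (f.appLE V W e).hom.toAlgebra
  haveI : Algebra.FiniteType A₀ B := f.finiteType_appLE hV hW e
  haveI : IsNoetherianRing B := Algebra.FiniteType.isNoetherianRing A₀ B
  letI : Module A₀ Γ(F, W) := Module.compHom Γ(F, W) (f.appLE V W e).hom
  haveI : IsScalarTower A₀ B Γ(F, W) := IsScalarTower.of_algebraMap_smul fun _ _ => rfl
  haveI : Module.Finite B Γ(F, W) := (QC.isCoh_iff_finite_sections.mp hF).2 ⟨W, hW⟩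
  let qp := hW.primeIdealOf ⟨x, hxW⟩
  let q := qp.asIdeal
  let R := Localization.AtPrime q
  let N := LocalizedModule q.primeCompl Γ(F, W)
  haveI : Module.Finite R N := Module.Finite.of_isLocalizedModule q.primeCompl (LocalizedModule.mkLinearMap _ _)
  refine (Groth.Agent.InjFibre.isFlatOverAt_iff f F hF.1 hV hW e x hxW).2 ?_
  obtain ⟨I, hI⟩ := Groth.Agent.FlatArt.exists_flattening (A := A₀) N
  suffices hbot : I = ⊥ by
    haveI : Module.Flat A₀ (A₀ ⊗[A₀] N) := (hI A₀).2 (by rw [hbot, Ideal.map_bot])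
    exact Module.Flat.of_linearEquiv (TensorProduct.lid A₀ N).symm
  suffices hi : ∀ i, ∀ a ∈ I, (Spec.map (CommRingCat.ofHom (u i))).appLE V ⊤ le_top a = 0 by
    rw [eq_bot_iff]
    intro a ha
    refine eA.injective ((hu (eA a) fun i => ?_).trans (map_zero eA).symm)
    have h1 := hi i a ha
    let eC := (Scheme.ΓSpecIso (CommRingCat.of (A' i))).commRingCatIsoToRingEquiv
    have h2 : eC ((Spec.map (CommRingCat.ofHom (u i))).appTop a) = u i (eA a) :=
      congr($(Scheme.ΓSpecIso_naturality (CommRingCat.ofHom (u i))).hom a)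
    rw [← h2]
    rw [show (Spec.map (CommRingCat.ofHom (u i))).appLE V ⊤ le_top = (Spec.map (CommRingCat.ofHom (u i))).appTop from Scheme.Hom.appLE_eq_app _] at h1
    exact (congrArg eC h1).trans (map_zero eC)
  intro i
  let S' := Spec (CommRingCat.of (A' i))
  let g : S' ⟶ S := Spec.map (CommRingCat.ofHom (u i))
  let O : S'.Opens := ⊤
  have hO : IsAffineOpen O := isAffineOpen_top S'
  let g' := pullback.fst f g
  let f' := pullback.snd f g
  have hc : IsPullback g' f' f g := IsPullback.of_hasPullback f g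
  let W' : (pullback f g).Opens := g' ⁻¹ᵁ W ⊓ f' ⁻¹ᵁ O
  have hW' : IsAffineOpen W' := by
    haveI : IsAffine _ := hV
    haveI : IsAffine _ := hW
    haveI : IsAffine _ := hO
    exact .of_isIso (Scheme.Hom.isPullback_resLE hc (show O ≤ g ⁻¹ᵁ V from le_top) e (rfl : W' = _)).isoPullback.hom
  have hP := (isIso_pushoutSection_iff hc (show O ≤ g ⁻¹ᵁ V from le_top) e (rfl : W' = _)).1
    (isIso_pushoutSection_of_isAffineOpen hc (show O ≤ g ⁻¹ᵁ V from le_top) e rfl hV hO hW)
  let C := Γ(S', O)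
  let T := Γ(pullback f g, W')
  let eC : C ≃+* A' i := (Scheme.ΓSpecIso (CommRingCat.of (A' i))).commRingCatIsoToRingEquiv
  haveI : IsLocalRing C := eC.symm.isLocalRing
  letI : Algebra A₀ C := (g.appLE V O le_top).hom.toAlgebra
  letI : Algebra B T := (g'.appLE W W' inf_le_left).hom.toAlgebra
  letI : Algebra C T := (f'.appLE O W' inf_le_right).hom.toAlgebra
  letI : Algebra A₀ T := ((algebraMap B T).comp (algebraMap A₀ B)).toAlgebra
  haveI : IsScalarTower A₀ B T := IsScalarTower.of_algebraMap_eq fun _ => rfl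
  haveI : IsScalarTower A₀ C T := IsScalarTower.of_algebraMap_eq fun a => congr($(hP.w).hom a)
  haveI : Algebra.IsPushout A₀ B C T := CommRingCat.isPushout_iff_isPushout.1 hP
  haveI : Algebra.IsPushout A₀ C B T := Algebra.IsPushout.symm inferInstance
  have hnil : ∀ a ∈ IsLocalRing.maximalIdeal A₀, IsNilpotent a := fun a ha => by
    obtain ⟨n, hn⟩ := IsArtinianRing.isNilpotent_jacobson_bot (R := A₀)
    have h := Ideal.pow_mem_pow (IsLocalRing.maximalIdeal_le_jacobson ⊥ ha) n
    rw [hn] at h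
    exact ⟨n, h⟩
  haveI : IsLocalHom (algebraMap A₀ C) := ⟨fun a ha => by
    by_contra hu'
    exact ((hnil a hu').map (algebraMap A₀ C)).not_isUnit ha⟩
  -- the closed point
  have hcl : ∀ p : PrimeSpectrum C, hO.fromSpec p = IsLocalRing.closedPoint (A' i) ↔
      p.asIdeal = IsLocalRing.maximalIdeal C := by
    intro p
    have hhomeo : IsHomeomorph hO.fromSpec.base :=
      isHomeomorph_iff_isEmbedding_surjective.2 ⟨hO.fromSpec.isOpenEmbedding.isEmbedding,
        fun y => hO.range_fromSpec.superset (show y ∈ (O : Set S') from trivial)⟩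
    constructor
    · intro hp
      have h1 : IsClosed ({p} : Set (PrimeSpectrum C)) := by
        have h2 : ({p} : Set (PrimeSpectrum C)) = hO.fromSpec.base ⁻¹' {IsLocalRing.closedPoint (A' i)} := by
          ext z; exact ⟨fun hz => (congrArg _ hz).trans hp, fun hz => hhomeo.injective (Eq.trans hz hp.symm)⟩
        rw [h2]
        exact ((PrimeSpectrum.isClosed_singleton_iff_isMaximal _).2
          (IsLocalRing.maximalIdeal.isMaximal _)).preimage hhomeo.continuous
      exact congrArg PrimeSpectrum.asIdeal (eq_closedPoint p h1)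
    · intro hp
      refine eq_closedPoint _ ?_
      have h1 : IsClosed ({p} : Set (PrimeSpectrum C)) :=
        (PrimeSpectrum.isClosed_singleton_iff_isMaximal p).2 (hp ▸ IsLocalRing.maximalIdeal.isMaximal C)
      have h2 := hhomeo.isClosedMap _ h1
      rwa [Set.image_singleton] at h2
  have hgp : ∀ P : PrimeSpectrum T, g' (hW'.fromSpec P) = hW.fromSpec (PrimeSpectrum.comap (algebraMap B T) P) :=
    fun P => (congr($(hW.SpecMap_appLE_fromSpec g' hW' inf_le_left).base P)).symm
  have hfp : ∀ P : PrimeSpectrum T, f' (hW'.fromSpec P) = hO.fromSpec (PrimeSpectrum.comap (algebraMap C T) P) :=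
    fun P => (congr($(hO.SpecMap_appLE_fromSpec f' hW' inf_le_right).base P)).symm
  suffices hm : I.map (algebraMap A₀ C) = ⊥ by
    intro a ha
    exact (Submodule.mem_bot C).1 (hm ▸ Ideal.mem_map_of_mem (algebraMap A₀ C) ha)
  -- translation of a flat point
  have key : ∀ x' : ↥(pullback f g), g' x' = x → f' x' = IsLocalRing.closedPoint (A' i) →
      FlatMod.IsFlatOverAt f' ((Scheme.Modules.pullback g').obj F) x' →
      ∀ hx' : x' ∈ W', (hW'.primeIdealOf ⟨x', hx'⟩).asIdeal.comap (algebraMap B T) = q ∧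
        (hW'.primeIdealOf ⟨x', hx'⟩).asIdeal.comap (algebraMap C T) = IsLocalRing.maximalIdeal C ∧
        Module.Flat C (Localization.AtPrime (hW'.primeIdealOf ⟨x', hx'⟩).asIdeal ⊗[B] N) := by
    intro x' hgx hfx hfl hx'
    have h1 : PrimeSpectrum.comap (algebraMap B T) (hW'.primeIdealOf ⟨x', hx'⟩) = qp := by
      apply hW.fromSpec.isOpenEmbedding.injective
      show hW.fromSpec _ = hW.fromSpec qp
      rw [← hgp, hW'.fromSpec_primeIdealOf, hW.fromSpec_primeIdealOf]
      exact hgx
    have h2 : (hW'.primeIdealOf ⟨x', hx'⟩).asIdeal.comap (algebraMap C T) = IsLocalRing.maximalIdeal C :=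
      (hcl (PrimeSpectrum.comap (algebraMap C T) (hW'.primeIdealOf ⟨x', hx'⟩))).1 (by
        rw [← hfp, hW'.fromSpec_primeIdealOf]; exact hfx)
    refine ⟨congrArg PrimeSpectrum.asIdeal h1, h2, flat_tensor_of_isFlatOverAt hc F hF.1 hW e hO x' hx'.1 hx'.2 hW' qp ?_ hfl⟩
    apply hW.fromSpec.isOpenEmbedding.injective
    show hW.fromSpec _ = hW.fromSpec qp
    rw [hW.fromSpec_primeIdealOf, hW.fromSpec_primeIdealOf]
    exact hgx
  rcases hflat with hall | ⟨hprim, hone⟩
  · refine map_eq_bot (q := q) N I hI C T _ ?_ (detects_all q C T)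
    rintro P ⟨hPp, hPq, hPm⟩
    let Pp : PrimeSpectrum T := ⟨P, hPp⟩
    have hgx : g' (hW'.fromSpec Pp) = x := by
      rw [hgp, show PrimeSpectrum.comap (algebraMap B T) Pp = qp from PrimeSpectrum.ext hPq]
      exact hW.fromSpec_primeIdealOf _
    have hfx : f' (hW'.fromSpec Pp) = IsLocalRing.closedPoint (A' i) := by
      rw [hfp]; exact (hcl _).2 hPm
    obtain ⟨hmem, hpt⟩ := Groth.Agent.InjFibre.primeIdealOf_fromSpec hW' Pp
    obtain ⟨-, -, h3⟩ := key _ hgx hfx (hall i _ hgx hfx) hmem
    refine ⟨hPp, hPm, ?_⟩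
    have h4 : ∀ (Q : PrimeSpectrum T), Q = Pp → Module.Flat C (Localization.AtPrime Q.asIdeal ⊗[B] N) →
        Module.Flat C (Localization.AtPrime Pp.asIdeal ⊗[B] N) := by
      rintro Q rfl hQ; exact hQ
    exact h4 _ hpt h3
  · obtain ⟨x', hgx, hfx, hfl⟩ := hone i
    have hx' : x' ∈ W' := ⟨show g' x' ∈ W from hgx.symm ▸ hxW, trivial⟩
    obtain ⟨h1, h2, h3⟩ := key x' hgx hfx hfl hx'
    let P := (hW'.primeIdealOf ⟨x', hx'⟩).asIdeal
    let k₀ := IsLocalRing.ResidueField A₀
    let f₀ : k₀ →+* q.ResidueField := Ideal.Quotient.lift (IsLocalRing.maximalIdeal A₀)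
      (algebraMap A₀ q.ResidueField) fun a ha => ((hnil a ha).map _).eq_zero
    letI : Algebra k₀ q.ResidueField := f₀.toAlgebra
    haveI : IsScalarTower A₀ k₀ q.ResidueField := IsScalarTower.of_algebraMap_eq fun _ => rfl
    refine map_eq_bot (q := q) N I hI C T {P} ?_ (detects_primary q ?_ C T P h1 h2)
    · rintro _ rfl
      exact ⟨inferInstance, h2, h3⟩
    intro a ha
    -- transport to the residue fields of the schemes
    let Rx := X.presheaf.stalk x
    let Ry := S.presheaf.stalk (f x)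
    letI : Algebra B Rx := (X.presheaf.germ W x hxW).hom.toAlgebra
    haveI : IsLocalization.AtPrime Rx q := hW.isLocalization_stalk ⟨_, hxW⟩
    let σ : q.ResidueField ≃+* IsLocalRing.ResidueField Rx :=
      IsLocalRing.ResidueField.mapEquiv (IsLocalization.algEquiv q.primeCompl R Rx).toRingEquiv
    letI : Algebra A₀ Ry := (S.presheaf.germ V (f x) trivial).hom.toAlgebra
    haveI : IsLocalization.AtPrime Ry (hV.primeIdealOf ⟨f x, trivial⟩).asIdeal := hV.isLocalization_stalk ⟨_, trivial⟩
    have hbij : Function.Bijective (algebraMap A₀ Ry) := by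
      refine (IsLocalization.atUnits A₀ (hV.primeIdealOf ⟨f x, trivial⟩).asIdeal.primeCompl ?_).bijective
      intro s hs
      by_contra hu'
      obtain ⟨n, hn⟩ := hnil s hu'
      exact hs (Ideal.IsPrime.mem_of_pow_mem inferInstance n (by rw [hn]; exact Submodule.zero_mem _))
    haveI hloc : IsLocalHom (algebraMap A₀ Ry) := ⟨fun a ha => by
      obtain ⟨b, hb⟩ := hbij.2 ↑(ha.unit⁻¹)
      exact IsUnit.of_mul_eq_one b (hbij.1 (by rw [map_mul, hb, map_one]; exact ha.mul_val_inv))⟩
    let τ : k₀ →+* IsLocalRing.ResidueField Ry := IsLocalRing.ResidueField.map (algebraMap A₀ Ry)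
    have hτ : Function.Surjective τ := fun y => by
      obtain ⟨y, rfl⟩ := IsLocalRing.residue_surjective y
      obtain ⟨y, rfl⟩ := hbij.2 y
      exact ⟨IsLocalRing.residue A₀ y, rfl⟩
    letI alg : Algebra (IsLocalRing.ResidueField Ry) (IsLocalRing.ResidueField Rx) := (f.residueFieldMap x).hom.toAlgebra
    have hcomm : ∀ c : k₀, (f.residueFieldMap x).hom (τ c) = σ (algebraMap k₀ q.ResidueField c) := by
      intro c
      obtain ⟨c, rfl⟩ := IsLocalRing.residue_surjective c
      show IsLocalRing.residue Rx ((f.stalkMap x).hom (algebraMap A₀ Ry c)) =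
        IsLocalRing.residue Rx (IsLocalization.algEquiv q.primeCompl R Rx (algebraMap A₀ R c))
      rw [IsScalarTower.algebraMap_apply A₀ B R, AlgEquiv.commutes]
      exact congrArg _ (FibCrit.germ_comm f V W e x hxW c)
    have hsep : IsSeparable (IsLocalRing.ResidueField Ry) (σ a) := by
      have hroot : Polynomial.aeval (σ a) ((minpoly k₀ a).map τ) = 0 := by
        rw [Polynomial.aeval_def, Polynomial.eval₂_map,
          show (algebraMap (IsLocalRing.ResidueField Ry) (IsLocalRing.ResidueField Rx)).comp τ =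
            σ.toRingHom.comp (algebraMap k₀ q.ResidueField) from RingHom.ext hcomm]
        show Polynomial.eval₂ _ (σ.toRingHom a) _ = 0
        rw [← Polynomial.hom_eval₂, ← Polynomial.aeval_def, minpoly.aeval, map_zero]
      exact (Polynomial.Separable.map ha).of_dvd (minpoly.dvd _ _ hroot)
    obtain ⟨c, hcc⟩ := hprim (σ a) hsep
    obtain ⟨c, rfl⟩ := hτ c
    exact ⟨c, σ.injective ((hcomm c).symm.trans hcc)⟩

end Groth.Agent.FlatFam
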