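import Mathlib
import Groth.Agent.FlatModBC.Basic
import Groth.Agent.FlatLimMod.Basic
import Groth.Agent.ModDesc.Sect

/-!
Flatness along factorisations of base changes.
-/

universe u

set_option autoImplicit false
set_option linter.style.haveILetI false
set_option backward.isDefEq.respectTransparency false

open CategoryTheory CategoryTheory.Limits AlgebraicGeometry

namespace Groth.Agent.FlatFam

variable {X S S' T : Scheme.{u}} (f : X ⟶ S) (g : S' ⟶ S) (r : T ⟶ S') (g₂ : T ⟶ S) (w : r ≫ g = g₂)

/-- The map between base changes. -/
noncomputable def baseMap : pullback f g₂ ⟶ pullback f g :=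
  pullback.lift (pullback.fst f g₂) (pullback.snd f g₂ ≫ r) (by rw [pullback.condition, Category.assoc, w])

theorem baseMap_fst : baseMap f g r g₂ w ≫ pullback.fst f g = pullback.fst f g₂ := pullback.lift_fst _ _ _

theorem baseMap_snd : baseMap f g r g₂ w ≫ pullback.snd f g = pullback.snd f g₂ ≫ r := pullback.lift_snd _ _ _

/-- A pullback flat at a point stays flat after a further base change. -/
theorem isFlatOverAt_factor (F : X.Modules) (z : ↥(pullback f g₂))
    (h : FlatMod.IsFlatOverAt (pullback.snd f g) ((Scheme.Modules.pullback (pullback.fst f g)).obj F)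
      (baseMap f g r g₂ w z)) :
    FlatMod.IsFlatOverAt (pullback.snd f g₂) ((Scheme.Modules.pullback (pullback.fst f g₂)).obj F) z := by
  have hsq : IsPullback (baseMap f g r g₂ w) (pullback.snd f g₂) (pullback.snd f g) r := by
    refine IsPullback.of_right ?_ (baseMap_snd f g r g₂ w) (IsPullback.of_hasPullback f g)
    rw [baseMap_fst, w]
    exact IsPullback.of_hasPullback f g₂
  exact FlatLimMod.isFlatOverAt_of_iso _ ((ModDesc.trIso _ _ (baseMap_fst f g r g₂ w)).app F)
    (FlatModBC.isFlatOverAt_baseChange hsq _ z h)

end Groth.Agent.FlatFam
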