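import Mathlib
import Groth.Agent.FlatFam.Scheme
import Groth.Agent.FlatFam.Transfer
import Groth.Agent.S0396
import Groth.Agent.S14020
import Groth.Agent.RG.Dev.CompleteIdeal

/-!
Flatness over a noetherian base detected by a family of base changes (EGA IV 11.5, adic form).
-/

universe u

set_option autoImplicit false
set_option linter.style.haveILetI false
set_option backward.isDefEq.respectTransparency false

open CategoryTheory CategoryTheory.Limits AlgebraicGeometry TensorProduct

namespace Groth.Agent.FlatFam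

/-- Where every element of `T` becomes an element of `B` after multiplying outside `q`, localising does nothing. -/
theorem flat_tensor_of_localized {A B C T N : Type u} [CommRing A] [CommRing B] [CommRing C] [CommRing T]
    [Algebra A B] [Algebra A C] [Algebra A T] [Algebra B T] [Algebra C T] [IsScalarTower A B T] [IsScalarTower A C T]
    [Algebra.IsPushout A C B T] (q : Ideal B) [q.IsPrime] (P : Ideal T) [P.IsPrime]
    (hPq : P.comap (algebraMap B T) = q)
    (hT : ∀ t : T, ∃ b₁ b₂ : B, b₂ ∉ q ∧ t * algebraMap B T b₂ = algebraMap B T b₁)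
    [AddCommGroup N] [Module A N] [Module B N] [IsScalarTower A B N]
    (hN : ∀ b : B, b ∉ q → Function.Bijective fun n : N => b • n)
    (h : Module.Flat C (Localization.AtPrime P ⊗[B] N)) : Module.Flat C (C ⊗[A] N) := by
  let LP := Localization.AtPrime P
  let X := T ⊗[B] N
  have hB : ∀ b : B, b ∉ q → Function.Bijective fun z : X => algebraMap B T b • z := by
    intro b hb
    let e : N ≃ₗ[B] N := LinearEquiv.ofBijective (LinearMap.lsmul B N b) (hN b hb)
    have he : (fun z : X => algebraMap B T b • z) = e.lTensor T := by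
      funext z
      induction z using TensorProduct.induction_on with
      | zero => simp
      | add x y hx hy => simp only [smul_add, map_add, hx, hy]
      | tmul t n =>
        rw [LinearEquiv.lTensor_tmul, algebraMap_smul]
        show b • (t ⊗ₜ[B] n) = t ⊗ₜ[B] (b • n)
        rw [TensorProduct.tmul_smul]
    rw [he]; exact (e.lTensor T).bijective
  haveI : IsLocalizedModule P.primeCompl (LinearMap.id : X →ₗ[T] X) :=
    { map_units := fun s => by
        rw [Module.End.isUnit_iff]
        obtain ⟨b₁, b₂, hb₂, he⟩ := hT s.1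
        have hb₁ : b₁ ∉ q := by
          rw [← hPq] at hb₂ ⊢
          intro h1
          have h2 : s.1 * algebraMap B T b₂ ∈ P := by rw [he]; exact h1
          exact (Ideal.IsPrime.mem_or_mem inferInstance h2).elim s.2 hb₂
        have h1 := hB b₁ hb₁
        rw [← he, show (fun z : X => (s.1 * algebraMap B T b₂) • z) =
          (fun z : X => s.1 • z) ∘ fun z : X => algebraMap B T b₂ • z from funext fun z => mul_smul _ _ _] at h1
        exact (Function.Bijective.of_comp_iff _ (hB b₂ hb₂)).1 h1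
      surj := fun z => ⟨(z, 1), by simp⟩
      exists_of_eq := fun h => ⟨1, by simpa using h⟩ }
  let e₁ : X ≃ₗ[T] LP ⊗[B] N :=
    (IsLocalizedModule.linearEquiv P.primeCompl (LinearMap.id : X →ₗ[T] X) (TensorProduct.mk T LP X 1)).trans
      ((AlgebraTensorModule.cancelBaseChange B T LP LP N).restrictScalars T)
  haveI := h
  haveI : Module.Flat C X := Module.Flat.of_linearEquiv (e₁.restrictScalars C)
  exact Module.Flat.of_linearEquiv (Algebra.IsPushout.cancelBaseChange A C B T N).symm

/-- Sections of the local scheme on charts. -/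
theorem appLE_fromSpecStalk {Y : Scheme.{u}} (y : Y) {R : CommRingCat.{u}} (φ : Y.presheaf.stalk y ⟶ R)
    (V : Y.Opens) (hyV : y ∈ V) (e : (⊤ : (Spec R).Opens) ≤ (Spec.map φ ≫ Y.fromSpecStalk y) ⁻¹ᵁ V) :
    (Spec.map φ ≫ Y.fromSpecStalk y).appLE V ⊤ e = Y.presheaf.germ V y hyV ≫ φ ≫ (Scheme.ΓSpecIso R).inv := by
  rw [Scheme.Hom.comp_appLE, Scheme.fromSpecStalk_app hyV]
  simp only [Category.assoc]
  erw [Scheme.Hom.map_appLE]
  congr 1
  have h : (Spec.map φ).appLE ⊤ ⊤ le_top = (Spec.map φ).appTop := Scheme.Hom.appLE_eq_app _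
  rw [h, ← Scheme.ΓSpecIso_inv_naturality]

/-- Flatness modulo an ideal, from flatness of the pullback to the corresponding closed subscheme of the local scheme. -/
theorem flat_quotient_of_isFlatOverAt {X Y : Scheme.{u}} [IsLocallyNoetherian Y] (f : X ⟶ Y) (F : X.Modules)
    (hF : Coh.IsQCoh F) (x : X) (J : Ideal (Y.presheaf.stalk (f x))) [IsLocalRing (Y.presheaf.stalk (f x) ⧸ J)]
    (xJ : ↥(pullback f (Spec.map (CommRingCat.ofHom (Ideal.Quotient.mk J)) ≫ Y.fromSpecStalk (f x))))
    (hx : pullback.fst f (Spec.map (CommRingCat.ofHom (Ideal.Quotient.mk J)) ≫ Y.fromSpecStalk (f x)) xJ = x)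
    (h : FlatMod.IsFlatOverAt (pullback.snd f (Spec.map (CommRingCat.ofHom (Ideal.Quotient.mk J)) ≫ Y.fromSpecStalk (f x)))
      ((Scheme.Modules.pullback (pullback.fst f (Spec.map (CommRingCat.ofHom (Ideal.Quotient.mk J)) ≫
        Y.fromSpecStalk (f x)))).obj F) xJ) :
    letI := FlatMod.moduleStalkOver f F x
    Module.Flat (Y.presheaf.stalk (f x) ⧸ J) ((Y.presheaf.stalk (f x) ⧸ J) ⊗[Y.presheaf.stalk (f x)] F.presheaf.stalk x) := by
  let O := Y.presheaf.stalk (f x)
  let R := O ⧸ J
  let sR := Spec (CommRingCat.of R)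
  let g : sR ⟶ Y := Spec.map (CommRingCat.ofHom (Ideal.Quotient.mk J)) ≫ Y.fromSpecStalk (f x)
  obtain ⟨V, hV, hyV, -⟩ := exists_isAffineOpen_mem_and_subset (X := Y) (x := f x) (U := ⊤) trivial
  obtain ⟨W, hW, hxW, e⟩ := exists_isAffineOpen_mem_and_subset (X := X) (x := x) (U := f ⁻¹ᵁ V) hyV
  let Op : sR.Opens := ⊤
  have hO : IsAffineOpen Op := isAffineOpen_top sR
  have eO : Op ≤ g ⁻¹ᵁ V := by
    intro z _
    have h1 : g (IsLocalRing.closedPoint R) = f x := by
      show (Spec.map (CommRingCat.ofHom (Ideal.Quotient.mk J)) ≫ Y.fromSpecStalk (f x)) (IsLocalRing.closedPoint R) = f x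
      rw [Scheme.Hom.comp_apply]
      refine (congrArg _ ?_).trans Scheme.fromSpecStalk_closedPoint
      haveI : IsLocalHom (Ideal.Quotient.mk J) := IsLocalHom.of_surjective _ Ideal.Quotient.mk_surjective
      exact IsLocalRing.comap_closedPoint (Ideal.Quotient.mk J)
    have h2 : z ⤳ IsLocalRing.closedPoint R :=
      (PrimeSpectrum.le_iff_specializes z _).1 (IsLocalRing.le_maximalIdeal z.isPrime.ne_top)
    exact (h2.map g.continuous).mem_open V.isOpen (by rw [h1]; exact hyV)
  let g' := pullback.fst f g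
  let f' := pullback.snd f g
  have hc : IsPullback g' f' f g := IsPullback.of_hasPullback f g
  let W' : (pullback f g).Opens := g' ⁻¹ᵁ W ⊓ f' ⁻¹ᵁ Op
  have hW' : IsAffineOpen W' := by
    haveI : IsAffine _ := hV
    haveI : IsAffine _ := hW
    haveI : IsAffine _ := hO
    exact .of_isIso (Scheme.Hom.isPullback_resLE hc eO e (rfl : W' = _)).isoPullback.hom
  have hP := (isIso_pushoutSection_iff hc eO e (rfl : W' = _)).1
    (isIso_pushoutSection_of_isAffineOpen hc eO e rfl hV hO hW)
  have hxW' : g' xJ ∈ W := hx.symm ▸ hxW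
  let A₀ := Γ(Y, V)
  let B := Γ(X, W)
  let C := Γ(sR, Op)
  let T := Γ(pullback f g, W')
  letI : Algebra A₀ B := (f.appLE V W e).hom.toAlgebra
  letI : Algebra A₀ C := (g.appLE V Op eO).hom.toAlgebra
  letI : Algebra B T := (g'.appLE W W' inf_le_left).hom.toAlgebra
  letI : Algebra C T := (f'.appLE Op W' inf_le_right).hom.toAlgebra
  letI : Algebra A₀ T := ((algebraMap B T).comp (algebraMap A₀ B)).toAlgebra
  haveI : IsScalarTower A₀ B T := IsScalarTower.of_algebraMap_eq fun _ => rfl
  haveI : IsScalarTower A₀ C T := IsScalarTower.of_algebraMap_eq fun a => congr($(hP.w).hom a)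
  haveI : Algebra.IsPushout A₀ B C T := CommRingCat.isPushout_iff_isPushout.1 hP
  haveI : Algebra.IsPushout A₀ C B T := Algebra.IsPushout.symm inferInstance
  letI : Module A₀ Γ(F, W) := Module.compHom Γ(F, W) (f.appLE V W e).hom
  haveI : IsScalarTower A₀ B Γ(F, W) := IsScalarTower.of_algebraMap_smul fun _ _ => rfl
  let qp := hW.primeIdealOf ⟨x, hxW⟩
  let q := qp.asIdeal
  let N := LocalizedModule q.primeCompl Γ(F, W)
  have hqp : hW.primeIdealOf ⟨g' xJ, hxW'⟩ = qp := by
    apply hW.fromSpec.isOpenEmbedding.injective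
    show hW.fromSpec _ = hW.fromSpec qp
    rw [hW.fromSpec_primeIdealOf, hW.fromSpec_primeIdealOf]
    exact hx
  let P := (hW'.primeIdealOf ⟨xJ, hxW', trivial⟩).asIdeal
  have hfl : Module.Flat C (Localization.AtPrime P ⊗[B] N) :=
    flat_tensor_of_isFlatOverAt hc F hF hW e hO xJ hxW' trivial hW' qp hqp h
  have hPq : P.comap (algebraMap B T) = q := by
    have h1 : PrimeSpectrum.comap (algebraMap B T) (hW'.primeIdealOf ⟨xJ, hxW', trivial⟩) = qp := by
      apply hW.fromSpec.isOpenEmbedding.injective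
      show hW.fromSpec _ = hW.fromSpec qp
      refine (congr($(hW.SpecMap_appLE_fromSpec g' hW' inf_le_left).base
        (hW'.primeIdealOf ⟨xJ, hxW', trivial⟩))).trans ?_
      show g' (hW'.fromSpec _) = _
      rw [hW'.fromSpec_primeIdealOf, hW.fromSpec_primeIdealOf]
      exact hx
    exact congrArg PrimeSpectrum.asIdeal h1
  -- sections of the local scheme are fractions
  let p := (hV.primeIdealOf ⟨f x, hyV⟩).asIdeal
  letI algO : Algebra A₀ O := (Y.presheaf.germ V (f x) hyV).hom.toAlgebra
  haveI : IsLocalization.AtPrime O p := hV.isLocalization_stalk ⟨_, hyV⟩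
  let eC : C ≃+* R := (Scheme.ΓSpecIso (CommRingCat.of R)).commRingCatIsoToRingEquiv
  have hgA : ∀ a : A₀, algebraMap A₀ C a = eC.symm (Ideal.Quotient.mk J (algebraMap A₀ O a)) := by
    intro a
    have h1 : g.appLE V Op eO = Y.presheaf.germ V (f x) hyV ≫ CommRingCat.ofHom (Ideal.Quotient.mk J) ≫
        (Scheme.ΓSpecIso (CommRingCat.of R)).inv := appLE_fromSpecStalk (f x) _ V hyV eO
    exact congr($(h1).hom a)
  have hfA : ∀ b : A₀, b ∉ p → algebraMap A₀ B b ∉ q := by
    intro b hb hbq
    have h1 : IsUnit (algebraMap A₀ O b) := IsLocalization.map_units O (⟨b, hb⟩ : p.primeCompl)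
    letI : Algebra B (X.presheaf.stalk x) := (X.presheaf.germ W x hxW).hom.toAlgebra
    haveI : IsLocalization.AtPrime (X.presheaf.stalk x) q := hW.isLocalization_stalk ⟨_, hxW⟩
    have h2 : IsUnit (algebraMap B (X.presheaf.stalk x) (algebraMap A₀ B b)) := by
      have h3 : (f.stalkMap x).hom (algebraMap A₀ O b) = algebraMap B (X.presheaf.stalk x) (algebraMap A₀ B b) :=
        FibCrit.germ_comm f V W e x hxW b
      rw [← h3]; exact h1.map _
    exact ((IsLocalization.AtPrime.isUnit_to_map_iff (X.presheaf.stalk x) q _).1 h2) hbq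
  have hT : ∀ t : T, ∃ b₁ b₂ : B, b₂ ∉ q ∧ t * algebraMap B T b₂ = algebraMap B T b₁ := by
    intro t
    obtain ⟨z, rfl⟩ := (Algebra.IsPushout.equiv A₀ C B T).surjective t
    induction z using TensorProduct.induction_on with
    | zero => exact ⟨0, 1, (Ideal.ne_top_iff_one q).1 (Ideal.IsPrime.ne_top inferInstance), by simp⟩
    | add x y hx hy =>
      obtain ⟨a₁, a₂, ha, hxe⟩ := hx
      obtain ⟨c₁, c₂, hc', hye⟩ := hy
      refine ⟨a₁ * c₂ + c₁ * a₂, a₂ * c₂, fun hm => (Ideal.IsPrime.mem_or_mem inferInstance hm).elim ha hc', ?_⟩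
      rw [map_add, map_add, map_mul, map_mul, map_mul, ← hxe, ← hye]; ring
    | tmul c b =>
      obtain ⟨o, ho⟩ := Ideal.Quotient.mk_surjective (eC c)
      obtain ⟨a, s, rfl⟩ := IsLocalization.exists_mk'_eq p.primeCompl o
      have hcs : c * algebraMap A₀ C s.1 = algebraMap A₀ C a := by
        apply eC.injective
        rw [map_mul, hgA, hgA, RingEquiv.apply_symm_apply, RingEquiv.apply_symm_apply, ← ho, ← map_mul,
          IsLocalization.mk'_spec]
      refine ⟨algebraMap A₀ B a * b, algebraMap A₀ B s.1, hfA _ s.2, ?_⟩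
      rw [Algebra.IsPushout.equiv_tmul, map_mul, ← IsScalarTower.algebraMap_apply A₀ B T,
        ← IsScalarTower.algebraMap_apply A₀ B T, IsScalarTower.algebraMap_apply A₀ C T a, ← hcs, map_mul,
        ← IsScalarTower.algebraMap_apply A₀ C T]
      ring
  have hN : ∀ b : B, b ∉ q → Function.Bijective fun n : N => b • n := fun b hb =>
    (Module.End.isUnit_iff _).1 (IsLocalizedModule.map_units (LocalizedModule.mkLinearMap q.primeCompl Γ(F, W)) (⟨b, hb⟩ : q.primeCompl))
  haveI hCN : Module.Flat C (C ⊗[A₀] N) := flat_tensor_of_localized q P hPq hT hN hfl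
  -- back to the stalks
  letI := FlatMod.moduleStalkOver f F x
  let M : Type u := F.presheaf.stalk x
  letI : Module B M := Module.compHom M (X.presheaf.germ W x hxW).hom
  letI : Module A₀ M := Module.compHom M ((algebraMap A₀ B) : A₀ →+* B)
  haveI : IsScalarTower A₀ B M := IsScalarTower.of_algebraMap_smul fun _ _ => rfl
  haveI : IsScalarTower A₀ O M := IsScalarTower.of_algebraMap_smul fun a m => by
    show (f.stalkMap x).hom ((Y.presheaf.germ V (f x) hyV).hom a) • m = _
    rw [FibCrit.germ_comm f V W e x hxW a]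
    rfl
  obtain ⟨gN, hgN⟩ := LocFree.exists_stalkMap hW hF hxW
  haveI := hgN
  let eN : N ≃ₗ[A₀] M := (IsLocalizedModule.iso q.primeCompl gN).restrictScalars A₀
  letI : Algebra C R := eC.toRingHom.toAlgebra
  letI : Algebra A₀ R := ((Ideal.Quotient.mk J).comp (algebraMap A₀ O)).toAlgebra
  haveI : IsScalarTower A₀ O R := IsScalarTower.of_algebraMap_eq fun _ => rfl
  haveI : IsScalarTower A₀ C R := IsScalarTower.of_algebraMap_eq fun a => by
    show _ = eC (algebraMap A₀ C a)
    rw [hgA, RingEquiv.apply_symm_apply]; rfl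
  haveI : Module.Flat R (R ⊗[A₀] M) := by
    haveI : Module.Flat R (R ⊗[A₀] N) :=
      Module.Flat.of_linearEquiv (AlgebraTensorModule.cancelBaseChange A₀ C R R N).symm
    exact Module.Flat.of_linearEquiv (AlgebraTensorModule.congr (LinearEquiv.refl R R) eN.symm)
  haveI := IsLocalization.tensorProduct_compatibleSMul (R := A₀) p.primeCompl O R M
  exact Module.Flat.of_linearEquiv (TensorProduct.equivOfCompatibleSMul A₀ O R R M)

/-- Equal morphisms have equal residue maps. -/
theorem residueFieldMap_of_eq {X Y : Scheme.{u}} {a b : X ⟶ Y} (h : a = b) (x : X) (hx : a x = b x) :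
    (Y.residueFieldCongr hx).inv ≫ a.residueFieldMap x = b.residueFieldMap x := by
  subst h; simp

/-- Residue maps of preimmersions are bijective. -/
theorem residueFieldMap_bijective {X Y : Scheme.{u}} (g : X ⟶ Y) [IsPreimmersion g] (x : X) :
    Function.Bijective (g.residueFieldMap x).hom := by
  refine ⟨(g.residueFieldMap x).hom.injective, fun z => ?_⟩
  obtain ⟨z, rfl⟩ := IsLocalRing.residue_surjective z
  obtain ⟨y, rfl⟩ := g.stalkMap_surjective x z
  exact ⟨IsLocalRing.residue _ y, rfl⟩

/-- The primary condition moves along preimmersions. -/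
theorem primary_of_square {X Y X' Y' : Scheme.{u}} (f : X ⟶ Y) (g : Y' ⟶ Y) [IsPreimmersion g] (g' : X' ⟶ X)
    [IsPreimmersion g'] (f' : X' ⟶ Y') (w : g' ≫ f = f' ≫ g) (x : X)
    (hprim : letI := (f.residueFieldMap x).hom.toAlgebra
      ∀ a : ↑(X.residueField x), IsSeparable ↑(Y.residueField (f x)) a → a ∈ (f.residueFieldMap x).hom.range)
    (x' : X') (hx : g' x' = x) (c : ↑(X'.residueField x'))
    (hc : letI := (f'.residueFieldMap x').hom.toAlgebra
      IsSeparable ↑(Y'.residueField (f' x')) c) :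
    c ∈ (f'.residueFieldMap x').hom.range := by
  subst hx
  letI := (f'.residueFieldMap x').hom.toAlgebra
  letI := (f.residueFieldMap (g' x')).hom.toAlgebra
  have hy : (f' ≫ g) x' = (g' ≫ f) x' := by rw [w]
  let τ : Y.residueField (f (g' x')) →+* Y'.residueField (f' x') :=
    ((Y.residueFieldCongr hy).inv ≫ g.residueFieldMap (f' x')).hom
  have hτ : Function.Bijective τ := by
    show Function.Bijective ((g.residueFieldMap (f' x')).hom ∘ (Y.residueFieldCongr hy).inv.hom)
    exact (residueFieldMap_bijective g (f' x')).comp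
      (ConcreteCategory.bijective_of_isIso (Y.residueFieldCongr hy).inv)
  let σ : X.residueField (g' x') ≃+* X'.residueField x' :=
    RingEquiv.ofBijective _ (residueFieldMap_bijective g' x')
  have hcomm : ∀ a, (f'.residueFieldMap x').hom (τ a) = σ ((f.residueFieldMap (g' x')).hom a) := by
    intro a
    have h1 : (Y.residueFieldCongr hy).inv ≫ (f' ≫ g).residueFieldMap x' = (g' ≫ f).residueFieldMap x' :=
      residueFieldMap_of_eq w.symm x' hy
    rw [Scheme.residueFieldMap_comp, Scheme.residueFieldMap_comp] at h1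
    exact congr($(h1).hom a)
  let eτ : Y.residueField (f (g' x')) ≃+* Y'.residueField (f' x') := RingEquiv.ofBijective τ hτ
  have hsep : IsSeparable (Y.residueField (f (g' x'))) (σ.symm c) := by
    let P : Polynomial (Y'.residueField (f' x')) := minpoly (Y'.residueField (f' x')) c
    have hroot : Polynomial.aeval (σ.symm c) (P.map eτ.symm.toRingHom) = 0 := by
      apply σ.injective
      rw [map_zero, Polynomial.aeval_def, Polynomial.eval₂_map]
      show σ.toRingHom _ = 0
      rw [Polynomial.hom_eval₂, show σ.toRingHom (σ.symm c) = c from σ.apply_symm_apply c,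
        show σ.toRingHom.comp ((algebraMap (Y.residueField (f (g' x'))) (X.residueField (g' x'))).comp
          eτ.symm.toRingHom) = algebraMap (Y'.residueField (f' x')) (X'.residueField x') from RingHom.ext fun b => by
            show σ ((f.residueFieldMap (g' x')).hom (eτ.symm b)) = (f'.residueFieldMap x').hom b
            rw [← hcomm]
            exact congrArg _ (eτ.apply_symm_apply b)]
      exact minpoly.aeval _ c
    exact (Polynomial.Separable.map hc).of_dvd (minpoly.dvd _ _ hroot)
  obtain ⟨a, ha⟩ := hprim (σ.symm c) hsep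
  exact ⟨τ a, by rw [hcomm, ha, RingEquiv.apply_symm_apply]⟩

/-- Flatness over a noetherian base detected by an adically dense family of base changes. -/
theorem flat_of_adic_families {X Y : Scheme.{u}} [IsLocallyNoetherian Y]
    (f : X ⟶ Y) [LocallyOfFiniteType f] (F : X.Modules) (hF : Coh.IsCoh F) (x : X)
    {ι : Type u} (A : ι → Type u) [∀ i, CommRing (A i)] [∀ i, IsLocalRing (A i)]
    (φ : ∀ i, (Y.presheaf.stalk (f x) : Type u) →+* A i) [∀ i, IsLocalHom (φ i)]
    (htop : ∀ N : ℕ, ∃ s : Finset (ι × ℕ),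
      ⨅ p ∈ s, Ideal.comap (φ p.1) (IsLocalRing.maximalIdeal (A p.1) ^ p.2) ≤
        IsLocalRing.maximalIdeal ↑(Y.presheaf.stalk (f x)) ^ N)
    (hflat : letI g : ∀ i, Spec (CommRingCat.of (A i)) ⟶ Y :=
        fun i => Spec.map (CommRingCat.ofHom (φ i)) ≫ Y.fromSpecStalk (f x)
      ((∀ (i : ι) (x' : ↥(pullback f (g i))), pullback.fst f (g i) x' = x →
        pullback.snd f (g i) x' = IsLocalRing.closedPoint (A i) →
        FlatMod.IsFlatOverAt (pullback.snd f (g i)) ((Scheme.Modules.pullback (pullback.fst f (g i))).obj F) x') ∨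
      ((letI := (f.residueFieldMap x).hom.toAlgebra
        ∀ a : ↑(X.residueField x), IsSeparable ↑(Y.residueField (f x)) a → a ∈ (f.residueFieldMap x).hom.range) ∧
        ∀ i : ι, ∃ x' : ↥(pullback f (g i)), pullback.fst f (g i) x' = x ∧
          pullback.snd f (g i) x' = IsLocalRing.closedPoint (A i) ∧
          FlatMod.IsFlatOverAt (pullback.snd f (g i)) ((Scheme.Modules.pullback (pullback.fst f (g i))).obj F) x'))) :
    FlatMod.IsFlatOverAt f F x := by
  classical
  let O := Y.presheaf.stalk (f x)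
  let m := IsLocalRing.maximalIdeal O
  letI : Module O (F.presheaf.stalk x) := FlatMod.moduleStalkOver f F x
  letI : Algebra O (X.presheaf.stalk x) := (f.stalkMap x).hom.toAlgebra
  haveI : IsScalarTower O (X.presheaf.stalk x) (F.presheaf.stalk x) := IsScalarTower.of_algebraMap_smul fun _ _ => rfl
  haveI : IsLocallyNoetherian X := LocallyOfFiniteType.isLocallyNoetherian f
  haveI : IsLocalHom (algebraMap O (X.presheaf.stalk x)) := inferInstanceAs (IsLocalHom (f.stalkMap x).hom)
  haveI : Module.Finite (X.presheaf.stalk x) (F.presheaf.stalk x) := by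
    obtain ⟨W, hW, hxW, -⟩ := exists_isAffineOpen_mem_and_subset (X := X) (x := x) (U := ⊤) trivial
    letI : Algebra Γ(X, W) (X.presheaf.stalk x) := (X.presheaf.germ W x hxW).hom.toAlgebra
    haveI := hW.isLocalization_stalk ⟨x, hxW⟩
    haveI : Module.Finite Γ(X, W) Γ(F, W) := (QC.isCoh_iff_finite_sections.mp hF).2 ⟨W, hW⟩
    letI : Module Γ(X, W) (F.presheaf.stalk x) := Module.compHom _ (X.presheaf.germ W x hxW).hom
    haveI : IsScalarTower Γ(X, W) (X.presheaf.stalk x) (F.presheaf.stalk x) :=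
      IsScalarTower.of_algebraMap_smul fun _ _ => rfl
    obtain ⟨gN, hgN⟩ := LocFree.exists_stalkMap hW hF.1 hxW
    haveI := hgN
    exact Module.Finite.of_isLocalizedModule (hW.primeIdealOf ⟨x, hxW⟩).asIdeal.primeCompl gN
  suffices hall : ∀ N : ℕ, 0 < N → Module.Flat (O ⧸ m ^ N) ((O ⧸ m ^ N) ⊗[O] F.presheaf.stalk x) by
    show Module.Flat O (F.presheaf.stalk x)
    have h0 := S0396.result (R := O) (S := X.presheaf.stalk x) (M := F.presheaf.stalk x) m hall
      (IsLocalRing.maximalIdeal (X.presheaf.stalk x))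
      (Ideal.map_le_iff_le_comap.2 (IsLocalRing.maximalIdeal_comap (algebraMap O (X.presheaf.stalk x))).ge)
    obtain ⟨eloc⟩ := Groth.Agent.RG.Dev.CompleteIdeal.exists_localized_self_equiv (IsLocalRing.maximalIdeal (X.presheaf.stalk x)) le_rfl
      (F.presheaf.stalk x)
    haveI := h0
    exact Module.Flat.of_linearEquiv (eloc.restrictScalars O).symm
  intro N hN
  obtain ⟨s, hs⟩ := htop N
  let a : ↥s → Ideal O := fun p => Ideal.comap (φ p.1.1) (IsLocalRing.maximalIdeal (A p.1.1) ^ (p.1.2 + 1))
  let J : Ideal O := ⨅ p : ↥s, a p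
  have hJN : J ≤ m ^ N := by
    refine le_trans (le_iInf₂ fun p hp => (iInf_le a ⟨p, hp⟩).trans ?_) hs
    exact Ideal.comap_mono (Ideal.pow_le_pow_right (Nat.le_succ _))
  let K := ∑ p : ↥s, (p.1.2 + 1)
  have hKJ : m ^ K ≤ J := le_iInf fun p => by
    refine (Ideal.pow_le_pow_right (Finset.single_le_sum (fun q _ => Nat.zero_le (q.1.2 + 1)) (Finset.mem_univ p))).trans ?_
    refine le_trans ?_ (Ideal.le_comap_pow (φ p.1.1) _)
    exact Ideal.pow_right_mono (IsLocalRing.maximalIdeal_comap (φ p.1.1)).ge _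
  let R := O ⧸ J
  haveI : Nontrivial R := Ideal.Quotient.nontrivial_iff.2 fun ht =>
    (IsLocalRing.maximalIdeal.isMaximal O).ne_top (top_le_iff.1 (ht ▸ hJN.trans (Ideal.pow_le_self hN.ne')))
  haveI : IsLocalRing R := IsLocalRing.of_surjective' _ Ideal.Quotient.mk_surjective
  haveI : IsArtinianRing R := by
    haveI : IsArtinianRing (O ⧸ m) := letI := Ideal.Quotient.field m; inferInstance
    haveI := S14020.result O m (IsNoetherian.noetherian m) K
    exact (Ideal.Quotient.factor_surjective hKJ).isArtinianRing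
  haveI : IsLocalHom (Ideal.Quotient.mk J) := IsLocalHom.of_surjective _ Ideal.Quotient.mk_surjective
  let sR := Spec (CommRingCat.of R)
  let g : sR ⟶ Y := Spec.map (CommRingCat.ofHom (Ideal.Quotient.mk J)) ≫ Y.fromSpecStalk (f x)
  haveI : IsClosedImmersion (Spec.map (CommRingCat.ofHom (Ideal.Quotient.mk J))) :=
    IsClosedImmersion.spec_of_surjective _ Ideal.Quotient.mk_surjective
  haveI : IsPreimmersion g := inferInstance
  have hgc : g (IsLocalRing.closedPoint R) = f x := by
    show (Spec.map (CommRingCat.ofHom (Ideal.Quotient.mk J)) ≫ Y.fromSpecStalk (f x)) (IsLocalRing.closedPoint R) = f x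
    rw [Scheme.Hom.comp_apply]
    exact (congrArg _ (IsLocalRing.comap_closedPoint (Ideal.Quotient.mk J))).trans Scheme.fromSpecStalk_closedPoint
  obtain ⟨xJ, hxJ, hxJc⟩ := Scheme.Pullback.exists_preimage_pullback (f := f) (g := g) x (IsLocalRing.closedPoint R) hgc.symm
  let fJ := pullback.snd f g
  let FJ := (Scheme.Modules.pullback (pullback.fst f g)).obj F
  haveI : IsLocallyNoetherian (pullback f g) := LocallyOfFiniteType.isLocallyNoetherian fJ
  have hFJ : Coh.IsCoh FJ := QC.isCoh_pullback _ hF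
  suffices hJ : FlatMod.IsFlatOverAt fJ FJ xJ by
    haveI := flat_quotient_of_isFlatOverAt f F hF.1 x J xJ hxJ hJ
    letI : Algebra R (O ⧸ m ^ N) := (Ideal.Quotient.factor hJN).toAlgebra
    haveI : IsScalarTower O R (O ⧸ m ^ N) := IsScalarTower.of_algebraMap_eq fun _ => rfl
    exact Module.Flat.of_linearEquiv
      (AlgebraTensorModule.cancelBaseChange O R (O ⧸ m ^ N) (O ⧸ m ^ N) (F.presheaf.stalk x)).symm
  -- the truncated family
  let A' : ↥s → Type u := fun p => A p.1.1 ⧸ IsLocalRing.maximalIdeal (A p.1.1) ^ (p.1.2 + 1)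
  haveI : ∀ p, Nontrivial (A' p) := fun p => Ideal.Quotient.nontrivial_iff.2 fun ht =>
    (IsLocalRing.maximalIdeal.isMaximal _).ne_top (top_le_iff.1 (ht ▸ Ideal.pow_le_self (Nat.succ_ne_zero _)))
  haveI : ∀ p, IsLocalRing (A' p) := fun p => IsLocalRing.of_surjective' _ Ideal.Quotient.mk_surjective
  let u : ∀ p : ↥s, R →+* A' p := fun p => Ideal.Quotient.lift J
    ((Ideal.Quotient.mk _).comp (φ p.1.1)) fun o ho =>
      Ideal.Quotient.eq_zero_iff_mem.2 (show o ∈ a p from iInf_le a p ho)
  have hu : ∀ o : R, (∀ p, u p o = 0) → o = 0 := by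
    intro o ho
    obtain ⟨o, rfl⟩ := Ideal.Quotient.mk_surjective o
    refine Ideal.Quotient.eq_zero_iff_mem.2 (Submodule.mem_iInf _ |>.2 fun p => ?_)
    exact Ideal.mem_comap.2 (Ideal.Quotient.eq_zero_iff_mem.1 (ho p))
  have hfst : Function.Injective (pullback.fst f g) := (pullback.fst f g).isEmbedding.injective
  -- comparison with the given base changes
  have hcomp : ∀ p : ↥s, ∃ (r : Spec (CommRingCat.of (A' p)) ⟶ Spec (CommRingCat.of (A p.1.1)))
      (v : pullback fJ (Spec.map (CommRingCat.ofHom (u p))) ⟶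
        pullback f (Spec.map (CommRingCat.ofHom (φ p.1.1)) ≫ Y.fromSpecStalk (f x))),
      IsPullback v (pullback.snd fJ (Spec.map (CommRingCat.ofHom (u p))))
        (pullback.snd f (Spec.map (CommRingCat.ofHom (φ p.1.1)) ≫ Y.fromSpecStalk (f x))) r ∧
      v ≫ pullback.fst f (Spec.map (CommRingCat.ofHom (φ p.1.1)) ≫ Y.fromSpecStalk (f x)) =
        pullback.fst fJ (Spec.map (CommRingCat.ofHom (u p))) ≫ pullback.fst f g ∧
      r (IsLocalRing.closedPoint (A' p)) = IsLocalRing.closedPoint (A p.1.1) := by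
    intro p
    let r : Spec (CommRingCat.of (A' p)) ⟶ Spec (CommRingCat.of (A p.1.1)) :=
      Spec.map (CommRingCat.ofHom (Ideal.Quotient.mk _))
    let h := Spec.map (CommRingCat.ofHom (u p))
    let gi := Spec.map (CommRingCat.ofHom (φ p.1.1)) ≫ Y.fromSpecStalk (f x)
    have hw : r ≫ gi = h ≫ g := by
      simp only [r, gi, h, g, ← Category.assoc, ← Spec.map_comp]
      congr 1
    have hbig : IsPullback (pullback.fst fJ h ≫ pullback.fst f g) (pullback.snd fJ h) f (h ≫ g) :=
      (IsPullback.of_hasPullback fJ h).paste_horiz (IsPullback.of_hasPullback f g)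
    let v : pullback fJ h ⟶ pullback f gi := pullback.lift (pullback.fst fJ h ≫ pullback.fst f g)
      (pullback.snd fJ h ≫ r) (by rw [hbig.w, Category.assoc, hw])
    refine ⟨r, v, ?_, pullback.lift_fst _ _ _, ?_⟩
    · refine IsPullback.of_right ?_ (pullback.lift_snd _ _ _) (IsPullback.of_hasPullback f gi)
      rw [pullback.lift_fst, hw]
      exact hbig
    · haveI : IsLocalHom (Ideal.Quotient.mk (IsLocalRing.maximalIdeal (A p.1.1) ^ (p.1.2 + 1))) :=
        IsLocalHom.of_surjective _ Ideal.Quotient.mk_surjective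
      exact IsLocalRing.comap_closedPoint _
  choose r v hsq hvf hr using hcomp
  have htrans : ∀ (p : ↥s) (z : ↥(pullback fJ (Spec.map (CommRingCat.ofHom (u p))))),
      FlatMod.IsFlatOverAt (pullback.snd f (Spec.map (CommRingCat.ofHom (φ p.1.1)) ≫ Y.fromSpecStalk (f x)))
        ((Scheme.Modules.pullback (pullback.fst f (Spec.map (CommRingCat.ofHom (φ p.1.1)) ≫ Y.fromSpecStalk (f x)))).obj F)
        (v p z) →
      FlatMod.IsFlatOverAt (pullback.snd fJ (Spec.map (CommRingCat.ofHom (u p))))
        ((Scheme.Modules.pullback (pullback.fst fJ (Spec.map (CommRingCat.ofHom (u p))))).obj FJ) z := fun p z hz =>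
    FlatLimMod.isFlatOverAt_of_iso _
      ((ModDesc.trIso _ _ (hvf p)).app F ≪≫ ((ModDesc.trIso _ _ (rfl :
        pullback.fst fJ (Spec.map (CommRingCat.ofHom (u p))) ≫ pullback.fst f g = _)).app F).symm)
      (FlatModBC.isFlatOverAt_baseChange (hsq p) _ z hz)
  refine flat_of_families fJ FJ hFJ xJ A' u hu ?_
  rcases hflat with hall | ⟨hprim, hone⟩
  · refine Or.inl fun p z hz hzc => htrans p z (hall p.1.1 _ ?_ ?_)
    · rw [← Scheme.Hom.comp_apply, hvf, Scheme.Hom.comp_apply, hz]; exact hxJ
    · rw [← Scheme.Hom.comp_apply, (hsq p).w, Scheme.Hom.comp_apply, hzc]; exact hr p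
  refine Or.inr ⟨?_, fun p => ?_⟩
  swap
  · obtain ⟨x', hx', hx'c, hfl⟩ := hone p.1.1
    obtain ⟨w, hw₁, hw₂⟩ := Scheme.Pullback.exists_preimage_pullback
      (f := pullback.snd f (Spec.map (CommRingCat.ofHom (φ p.1.1)) ≫ Y.fromSpecStalk (f x))) (g := r p) x'
      (IsLocalRing.closedPoint (A' p)) (hx'c.trans (hr p).symm)
    let z := (hsq p).isoPullback.inv w
    have hvz : v p z = x' := by
      rw [← Scheme.Hom.comp_apply, (hsq p).isoPullback_inv_fst]; exact hw₁
    refine ⟨z, hfst ?_, ?_, htrans p z (hvz.symm ▸ hfl)⟩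
    · rw [← Scheme.Hom.comp_apply (pullback.fst fJ _) (pullback.fst f g), ← hvf, Scheme.Hom.comp_apply, hvz, hx']
      exact hxJ.symm
    · rw [← Scheme.Hom.comp_apply, (hsq p).isoPullback_inv_snd]; exact hw₂
  -- the residue fields do not change
  letI := (fJ.residueFieldMap xJ).hom.toAlgebra
  intro c hc
  exact primary_of_square f g (pullback.fst f g) fJ (IsPullback.of_hasPullback f g).w x hprim xJ hxJ c hc

end Groth.Agent.FlatFam
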